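import Groth.Agent.AlgSpLib.Sheaf
import Groth.Agent.AlgSpDec.Glue
import Mathlib.AlgebraicGeometry.Pullbacks
import Mathlib.RingTheory.TensorProduct.Maps

/-!
Affine schemes over an affine scheme over a base, and étale coverings of them.
-/

set_option autoImplicit false
set_option backward.isDefEq.respectTransparency false
set_option backward.isDefEq.respectTransparency.types false
set_option linter.style.haveILetI false

universe u

open CategoryTheory CategoryTheory.Limits AlgebraicGeometry Opposite TensorProduct AlgSp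

noncomputable section

namespace Groth.Agent.ConstActX

variable {S : Scheme.{u}} {A0 : Type u} [CommRing A0] (s : Spec (CommRingCat.of A0) ⟶ S)

/-- The affine scheme of an algebra, over the base. -/
abbrev aff (C : Type u) [CommRing C] [Algebra A0 C] : Over S :=
  Over.mk (Spec.map (CommRingCat.ofHom (algebraMap A0 C)) ≫ s)

variable {C D E : Type u} [CommRing C] [CommRing D] [CommRing E] [Algebra A0 C] [Algebra A0 D] [Algebra A0 E]

/-- The morphism of an algebra map. -/
def affMap (h : C →ₐ[A0] D) : aff s D ⟶ aff s C :=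
  Over.homMk (Spec.map (CommRingCat.ofHom h.toRingHom)) (by
    show Spec.map _ ≫ Spec.map _ ≫ s = Spec.map _ ≫ s
    rw [← Category.assoc, ← Spec.map_comp, ← CommRingCat.ofHom_comp]
    congr 3
    exact h.comp_algebraMap)

theorem affMap_left (h : C →ₐ[A0] D) : (affMap s h).left = Spec.map (CommRingCat.ofHom h.toRingHom) := rfl

theorem affMap_comp (h : C →ₐ[A0] D) (k : D →ₐ[A0] E) : affMap s (k.comp h) = affMap s k ≫ affMap s h := by
  refine Over.OverMorphism.ext ?_
  show Spec.map _ = Spec.map _ ≫ Spec.map _
  rw [← Spec.map_comp, ← CommRingCat.ofHom_comp]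
  rfl

theorem affMap_id : affMap s (AlgHom.id A0 C) = 𝟙 _ := Over.OverMorphism.ext (Spec.map_id _)

theorem affMap_injective {h k : C →ₐ[A0] D} (e : affMap s h = affMap s k) : h = k :=
  AlgHom.coe_ringHom_injective (congrArg CommRingCat.Hom.hom (Spec.map_injective (congrArg CommaMorphism.left e)))

/-- A morphism between affine schemes over the base commuting with the maps to the spectrum is of an algebra map. -/
theorem exists_affMap (b : aff s D ⟶ aff s C)
    (hb : b.left ≫ Spec.map (CommRingCat.ofHom (algebraMap A0 C)) = Spec.map (CommRingCat.ofHom (algebraMap A0 D))) :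
    ∃ h : C →ₐ[A0] D, affMap s h = b := by
  have e : CommRingCat.ofHom (algebraMap A0 C) ≫ Spec.preimage b.left = CommRingCat.ofHom (algebraMap A0 D) :=
    Spec.map_injective (by rw [Spec.map_comp, Spec.map_preimage]; exact hb)
  exact ⟨{ toRingHom := (Spec.preimage b.left).hom,
           commutes' := fun r => RingHom.congr_fun (congrArg CommRingCat.Hom.hom e) r },
    Over.OverMorphism.ext (Spec.map_preimage _)⟩

/-- The map to the spectrum of the ground ring. -/
abbrev toBase (C : Type u) [CommRing C] [Algebra A0 C] : aff s C ⟶ aff s A0 := affMap s (Algebra.ofId A0 C)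

theorem affMap_toBase (h : C →ₐ[A0] D) : affMap s h ≫ toBase s C = toBase s D := by
  rw [toBase, ← affMap_comp]
  exact congrArg (affMap s) (Subsingleton.elim _ _)

/-- Morphisms into the spectrum of a tensor product. -/
theorem exists_lift_tensor {T : Over S} (a : T ⟶ aff s C) (b : T ⟶ aff s D)
    (h : a ≫ toBase s C = b ≫ toBase s D) :
    ∃ l : T ⟶ aff s (C ⊗[A0] D), l ≫ affMap s Algebra.TensorProduct.includeLeft = a ∧
      l ≫ affMap s Algebra.TensorProduct.includeRight = b := by
  have h' : a.left ≫ Spec.map (CommRingCat.ofHom (algebraMap A0 C)) =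
      b.left ≫ Spec.map (CommRingCat.ofHom (algebraMap A0 D)) := congrArg CommaMorphism.left h
  let l₀ : T.left ⟶ Spec (CommRingCat.of (C ⊗[A0] D)) :=
    pullback.lift a.left b.left h' ≫ (pullbackSpecIso A0 C D).hom
  have hl : l₀ ≫ Spec.map (CommRingCat.ofHom (Algebra.TensorProduct.includeLeft (R := A0) (S := A0) (A := C) (B := D)).toRingHom) = a.left := by
    show (pullback.lift a.left b.left h' ≫ (pullbackSpecIso A0 C D).hom) ≫
      Spec.map (CommRingCat.ofHom Algebra.TensorProduct.includeLeftRingHom) = _
    rw [Category.assoc, pullbackSpecIso_hom_fst, pullback.lift_fst]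
  have hr : l₀ ≫ Spec.map (CommRingCat.ofHom (Algebra.TensorProduct.includeRight (R := A0) (A := C) (B := D)).toRingHom) = b.left := by
    show (pullback.lift a.left b.left h' ≫ (pullbackSpecIso A0 C D).hom) ≫
      Spec.map (CommRingCat.ofHom (RingHomClass.toRingHom (Algebra.TensorProduct.includeRight (R := A0) (A := C) (B := D)))) = _
    rw [Category.assoc, pullbackSpecIso_hom_snd, pullback.lift_snd]
  refine ⟨Over.homMk l₀ ?_, Over.OverMorphism.ext hl, Over.OverMorphism.ext hr⟩
  rw [← Over.w (affMap s (Algebra.TensorProduct.includeLeft (R := A0) (S := A0) (A := C) (B := D))), ← Category.assoc]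
  show (l₀ ≫ Spec.map _) ≫ _ = _
  rw [hl, Over.w]

/-- A sieve containing a jointly surjective family of étale morphisms covers. -/
theorem mem_J_of_etale_family {ι : Type u} {T : Over S} (U : ι → Over S) (π : ∀ i, U i ⟶ T)
    [∀ i, Etale (π i).left] (hsurj : ∀ y, ∃ i, y ∈ Set.range (π i).left) (R : Sieve T) (h : ∀ i, R (π i)) :
    R ∈ AlgSp.J S T := by
  rw [GrothendieckTopology.mem_over_iff]
  have hmem : Presieve.ofArrows (fun i => (U i).left) (fun i => (π i).left) ∈ Scheme.fppfPrecoverage T.left := by
    rw [Scheme.fppfPrecoverage, Scheme.ofArrows_mem_precoverage_iff]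
    exact ⟨hsurj, fun i => ⟨inferInstance, inferInstance⟩⟩
  refine GrothendieckTopology.superset_covering _ ?_ (Precoverage.generate_mem_toGrothendieck hmem)
  rw [Sieve.generate_le_iff]
  rintro _ _ ⟨i⟩
  rw [Sieve.overEquiv_iff]
  convert R.downward_closed (h i) (Over.homMk (U := Over.mk ((π i).left ≫ T.hom)) (V := U i) (𝟙 _)
    (by simp)) using 1
  ext
  simp

open Groth.Agent.AlgSpLib in
/-- Maps which agree on a jointly surjective family of étale morphisms are equal. -/
theorem hom_ext_of_etale_family {ι : Type u} {F : Sp S} {T : Over S} (U : ι → Over S) (π : ∀ i, U i ⟶ T)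
    [∀ i, Etale (π i).left] (hsurj : ∀ y, ∃ i, y ∈ Set.range (π i).left) (a b : (yon S).obj T ⟶ F)
    (h : ∀ i, (yon S).map (π i) ≫ a = (yon S).map (π i) ≫ b) : a = b := by
  refine hom_ext_of_covering a b (R := Sieve.ofArrows _ π)
    (mem_J_of_etale_family U π hsurj _ fun i => Sieve.ofArrows_mk _ _ i) ?_
  intro T' φ hφ
  obtain ⟨i, k, rfl⟩ := (Sieve.mem_ofArrows_iff _ _ φ).1 hφ
  rw [Functor.map_comp, Category.assoc, Category.assoc, h i]

end Groth.Agent.ConstActX
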