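import Groth.Agent.ConstActX.LocalDescend

/-!
Invariant maps from an affine scheme with a finite group action to algebraic spaces descend uniquely to the
spectrum of the invariants, when the ring is finite over the invariants.
-/

set_option autoImplicit false
set_option backward.isDefEq.respectTransparency false
set_option backward.isDefEq.respectTransparency.types false
set_option linter.style.haveILetI false

universe u

open CategoryTheory CategoryTheory.Limits AlgebraicGeometry Opposite TensorProduct AlgSp

noncomputable section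

namespace Groth.Agent.ConstActX

open Groth.Agent.AlgSpLib

variable {S : Scheme.{u}} {A0 : Type u} [CommRing A0] (A : Type u) [CommRing A] [Algebra A0 A] [Module.Finite A0 A]
  (G : Type u) [Group G] [Finite G] [MulSemiringAction G A] [SMulCommClass G A0 A] [Algebra.IsInvariant A0 A G]
  (s : Spec (CommRingCat.of A0) ⟶ S)

/-- Invariant maps to algebraic spaces descend uniquely. -/
theorem existsUnique_descent (hinj : Function.Injective (algebraMap A0 A)) {N : Sp S} (hN : IsAlgSpace N)
    (ψ : (yon S).obj (aff s A) ⟶ N)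
    (hψ : ∀ g : G, (yon S).map (affMap s (MulSemiringAction.toAlgHom A0 A g)) ≫ ψ = ψ) :
    ∃! χ : (yon S).obj (aff s A0) ⟶ N, (yon S).map (toBase s A) ≫ χ = ψ := by
  have huniq : ∀ χ χ' : (yon S).obj (aff s A0) ⟶ N, (yon S).map (toBase s A) ≫ χ = ψ →
      (yon S).map (toBase s A) ≫ χ' = ψ → χ = χ' := by
    intro χ χ' h h'
    refine eq_of_agree s A hinj hN χ χ' ?_
    have e : affMap s (Algebra.TensorProduct.includeRight (R := A0) (A := A) (B := A0)) =
        affMap s (Algebra.TensorProduct.includeLeft (R := A0) (S := A0) (A := A) (B := A0)) ≫ toBase s A := by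
      rw [toBase, ← affMap_comp]
      exact congrArg (affMap s) (Subsingleton.elim _ _)
    rw [e, Functor.map_comp, Category.assoc, Category.assoc, h, h']
  obtain ⟨U, p, hpe, hps⟩ := hN.2
  choose B i₁ i₂ het hprime w hw using exists_local A G s hinj p hpe hps ψ hψ
  letI := i₁
  letI := i₂
  haveI := het
  let π : ∀ q, aff s (B q) ⟶ aff s A0 := fun q => toBase s (B q)
  haveI : ∀ q, Etale (π q).left := fun q => by
    show Etale (Spec.map (CommRingCat.ofHom (algebraMap A0 (B q))))
    exact (HasRingHomProperty.Spec_iff (P := @Etale)).2 (RingHom.etale_algebraMap.2 (het q))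
  have hsurj : ∀ y, ∃ q, y ∈ Set.range (π q).left := fun y => by
    obtain ⟨P, hP⟩ := hprime y
    exact ⟨y, P, hP⟩
  let R : Sieve (aff s A0) := Sieve.ofArrows _ π
  have hR : R ∈ AlgSp.J S (aff s A0) := mem_J_of_etale_family _ π hsurj _ fun q => Sieve.ofArrows_mk _ _ q
  have hs : Presieve.IsSheafFor N.obj (Presieve.ofArrows _ π) :=
    (Presieve.isSheafFor_iff_generate _).2 (((isSheaf_iff_isSheaf_of_type _ _).1 N.property) _ hR)
  let x : ∀ q, N.obj.obj (op (aff s (B q))) := fun q => (AlgSp.J S).uliftYonedaEquiv ((yon S).map (w q) ≫ p)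
  obtain ⟨t, ht, -⟩ := (Presieve.isSheafFor_arrows_iff _ _).1 hs x (fun i j T a b hab => by
      simp only [x]
      rw [uliftYonedaEquiv_precomp, uliftYonedaEquiv_precomp]
      congr 1
      obtain ⟨l, hla, hlb⟩ := exists_lift_tensor s a b hab
      rw [← hla, ← hlb, Functor.map_comp, Functor.map_comp, Category.assoc, Category.assoc]
      refine congrArg (fun c => (yon S).map l ≫ c) ?_
      show (yon S).map _ ≫ (yon S).map (w i) ≫ p = (yon S).map _ ≫ (yon S).map (w j) ≫ p
      rw [← Functor.map_comp_assoc, ← Functor.map_comp_assoc]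
      refine eq_of_lift s A hinj (C := B i ⊗[A0] B j) p hpe _ _ ?_
      simp only [Functor.map_comp, Category.assoc]
      rw [← Functor.map_comp_assoc, ← includeRight_comm, Functor.map_comp, Category.assoc, hw i,
        ← Functor.map_comp_assoc, includeLeft_comm, ← Functor.map_comp_assoc (yon S) _ (affMap s
          (Algebra.TensorProduct.includeRight (R := A0) (A := B i) (B := B j))), ← includeRight_comm,
        Functor.map_comp, Category.assoc, hw j, ← Functor.map_comp_assoc, includeLeft_comm])
  let χ : (yon S).obj (aff s A0) ⟶ N := (AlgSp.J S).uliftYonedaEquiv.symm t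
  have hχ : ∀ q, (yon S).map (π q) ≫ χ = (yon S).map (w q) ≫ p := fun q =>
    (AlgSp.J S).uliftYonedaEquiv.injective (by
      rw [← uliftYonedaEquiv_precomp, Equiv.apply_symm_apply, ht q])
  have hχf : (yon S).map (toBase s A) ≫ χ = ψ := by
    refine hom_ext_of_covering _ _ (R := Sieve.pullback (toBase s A) R) ((AlgSp.J S).pullback_stable _ hR) ?_
    intro T φ hφ
    obtain ⟨q, k, hk⟩ := (Sieve.mem_ofArrows_iff _ _ _).1 hφ
    obtain ⟨l, hl, hl'⟩ := exists_lift_tensor s φ k hk
    rw [← Functor.map_comp_assoc, hk, Functor.map_comp, Category.assoc, hχ q, ← hl', Functor.map_comp,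
      Category.assoc, hw q, ← Functor.map_comp_assoc, hl]
  exact ⟨χ, hχf, fun χ' h => huniq χ' χ h hχf⟩

end Groth.Agent.ConstActX
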