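import Groth.Prelude.Def_ConstAct2
import Groth.Agent.ConstActX.Descend

/-!
The descent theorem for the constant group scheme of a finite group acting on an affine scheme.
-/

set_option autoImplicit false
set_option backward.isDefEq.respectTransparency false
set_option backward.isDefEq.respectTransparency.types false
set_option linter.style.haveILetI false

universe u

open CategoryTheory CategoryTheory.Limits MonoidalCategory CartesianMonoidalCategory AlgebraicGeometry Opposite
  TensorProduct

noncomputable section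

namespace Groth.Agent.ConstActX

/-- Unique factorisation transports along isomorphisms. -/
theorem existsUnique_transport {C : Type*} [Category* C] {X X' Y Y' N : C} (a : X ≅ X') (b : Y ≅ Y') (f : X ⟶ Y)
    (f' : X' ⟶ Y') (sq : f ≫ b.hom = a.hom ≫ f') (ψ : X' ⟶ N) (h : ∃! χ : Y ⟶ N, f ≫ χ = a.hom ≫ ψ) :
    ∃! χ : Y' ⟶ N, f' ≫ χ = ψ := by
  obtain ⟨χ, hχ, hu⟩ := h
  have sq' : f' ≫ b.inv = a.inv ≫ f := by rw [Iso.comp_inv_eq, Category.assoc, sq, Iso.inv_hom_id_assoc]
  refine ⟨b.inv ≫ χ, ?_, fun χ' h' => ?_⟩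
  · simp only [← Category.assoc, sq']
    simp only [Category.assoc, hχ, Iso.inv_hom_id_assoc]
  · rw [← hu (b.hom ≫ χ') (by simp only [← Category.assoc, sq]; simp only [Category.assoc, h']),
      Iso.inv_hom_id_assoc]

variable (R : Type u) [CommRing R] (A : Type u) [CommRing A] [Algebra R A]
  (G : Type u) [Group G] [MulSemiringAction G A] [SMulCommClass G R A]

theorem smulCommClass_inv : SMulCommClass G (ConstAct.inv R A G) A :=
  ⟨fun g a b => by
    show g • ((a : A) * b) = (a : A) * g • b
    rw [smul_mul', a.2 g]⟩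

theorem isInvariant_inv : Algebra.IsInvariant (ConstAct.inv R A G) A G := ⟨fun b hb => ⟨⟨b, hb⟩, rfl⟩⟩

theorem finite_inv [Finite G] [Algebra.FiniteType R A] : Module.Finite (ConstAct.inv R A G) A := by
  haveI := smulCommClass_inv R A G
  haveI := isInvariant_inv R A G
  haveI : Algebra.IsIntegral (ConstAct.inv R A G) A := Algebra.IsInvariant.isIntegral _ A G
  haveI : Algebra.FiniteType (ConstAct.inv R A G) A := Algebra.FiniteType.of_restrictScalars_finiteType R _ A
  exact Algebra.IsIntegral.finite

/-- Morphisms over the base between spectra of algebras are of algebra maps. -/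
theorem exists_pt {B K : Type u} [CommRing B] [CommRing K] [Algebra R B] [Algebra R K]
    (x : CoactBr.sp R K ⟶ CoactBr.sp R B) : ∃ φ : B →ₐ[R] K, CoactBr.pt φ = x := by
  have e : CommRingCat.ofHom (algebraMap R B) ≫ Spec.preimage x.left = CommRingCat.ofHom (algebraMap R K) :=
    Spec.map_injective (by rw [Spec.map_comp, Spec.map_preimage]; exact Over.w x)
  exact ⟨{ toRingHom := (Spec.preimage x.left).hom,
           commutes' := fun r => RingHom.congr_fun (congrArg CommRingCat.Hom.hom e) r },
    Over.OverMorphism.ext (Spec.map_preimage _)⟩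

section Iso

variable (A0 : Type u) [CommRing A0] [Algebra R A0] [Algebra A0 A] [IsScalarTower R A0 A]

theorem structA : 𝟙 (Spec (CommRingCat.of A)) ≫ Spec.map (CommRingCat.ofHom (algebraMap R A)) =
    (aff (Spec.map (CommRingCat.ofHom (algebraMap R A0))) A).hom := by
  show _ = Spec.map _ ≫ _
  rw [Category.id_comp, ← Spec.map_comp, ← CommRingCat.ofHom_comp, ← IsScalarTower.algebraMap_eq]

omit [Algebra R A] [Algebra A0 A] [IsScalarTower R A0 A] in
theorem eq0 : aff (Spec.map (CommRingCat.ofHom (algebraMap R A0))) A0 =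
    Over.mk (Spec.map (CommRingCat.ofHom (algebraMap R A0))) := by
  have h : CommRingCat.ofHom (algebraMap A0 A0) = 𝟙 _ := CommRingCat.hom_ext (RingHom.ext fun _ => rfl)
  refine congrArg (Over.mk (X := Spec (CommRingCat.of R)) (Y := Spec (CommRingCat.of A0))) ?_
  rw [h, Spec.map_id, Category.id_comp]

/-- The affine scheme over an intermediate algebra is the affine scheme over the base. -/
def isoA : aff (Spec.map (CommRingCat.ofHom (algebraMap R A0))) A ≅ CoactBr.sp R A :=
  Over.isoMk (Iso.refl _) (structA R A A0)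

/-- The spectrum of the intermediate algebra. -/
def iso0 : aff (Spec.map (CommRingCat.ofHom (algebraMap R A0))) A0 ≅
    Over.mk (Spec.map (CommRingCat.ofHom (algebraMap R A0))) :=
  eqToIso (eq0 R A0)

omit [IsScalarTower R A0 A] in
theorem toBase_iso0_left : (toBase (Spec.map (CommRingCat.ofHom (algebraMap R A0))) A ≫ (iso0 R A0).hom).left =
    Spec.map (CommRingCat.ofHom (algebraMap A0 A)) := by
  rw [Over.comp_left, iso0, eqToIso.hom, Over.eqToHom_left]
  exact Category.comp_id _

theorem isoA_comp_left {T : Over (Spec (CommRingCat.of R))} (f : CoactBr.sp R A ⟶ T) :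
    ((isoA R A A0).hom ≫ f).left = f.left := Category.id_comp _

theorem comp_isoA_left {T : Over (Spec (CommRingCat.of R))}
    (f : T ⟶ aff (Spec.map (CommRingCat.ofHom (algebraMap R A0))) A) :
    (f ≫ (isoA R A A0).hom).left = f.left := Category.comp_id _

end Iso

variable [Fintype G] [DecidableEq G]

omit [DecidableEq G] in
/-- The constant group scheme is affine, flat and of finite presentation over the base. -/
theorem gr_props : IsAffineHom (ConstAct.GR R G).hom ∧ Flat (ConstAct.GR R G).hom ∧
    LocallyOfFinitePresentation (ConstAct.GR R G).hom := by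
  show IsAffineHom (Spec.map (CommRingCat.ofHom (algebraMap R (ConstGrp.F R G)))) ∧
    Flat (Spec.map (CommRingCat.ofHom (algebraMap R (ConstGrp.F R G)))) ∧
    LocallyOfFinitePresentation (Spec.map (CommRingCat.ofHom (algebraMap R (ConstGrp.F R G))))
  refine ⟨inferInstance, (HasRingHomProperty.Spec_iff (P := @Flat)).2 ?_,
    (HasRingHomProperty.Spec_iff (P := @LocallyOfFinitePresentation)).2 ?_⟩
  · exact RingHom.flat_algebraMap_iff.2 inferInstance
  · haveI : Module.FinitePresentation R (ConstGrp.F R G) := Module.finitePresentation_of_projective R _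
    exact RingHom.finitePresentation_algebraMap.2 (Algebra.FinitePresentation.of_finitePresentation R _)

/-- The quotient map is invariant under the constant group scheme. -/
theorem gaction_quot :
    (ConstAct.gaction R A G).act ≫ ConstAct.quot R A G = snd (ConstAct.GR R G) (ConstAct.X R A) ≫ ConstAct.quot R A G := by
  letI := ConstAct.comod R A G
  haveI := ConstAct.isCoactAlg R A G
  rw [ConstAct.gaction_eq]
  refine (CoactBr.action_act_comp_eq_iff _).2 (Over.OverMorphism.ext ?_)
  show ((pullbackSpecIso R A (ConstGrp.F R G)).hom ≫ Spec.map _) ≫ Spec.map _ =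
    pullback.fst _ _ ≫ Spec.map _
  rw [Category.assoc, ← pullbackSpecIso_hom_fst, Category.assoc, ← Spec.map_comp, ← Spec.map_comp]
  congr 2
  refine CommRingCat.hom_ext (RingHom.ext fun a => ?_)
  show ConstAct.coactLin R A G (a : A) = (a : A) ⊗ₜ[R] (1 : ConstGrp.F R G)
  rw [ConstAct.coactLin_apply]
  have ha : ∀ g : G, g • (a : A) = a := a.2
  simp only [ha]
  rw [← TensorProduct.tmul_sum, ConstGrp.sum_e]

/-- The points of the spectrum over the points of the invariants. -/
theorem horb [Algebra.FiniteType R A] (Ω : Type u) [Field Ω] [IsAlgClosed Ω]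
    (t : Spec (CommRingCat.of Ω) ⟶ Spec (CommRingCat.of R)) :
    (∀ y : Over.mk t ⟶ ConstAct.specInv R A G, ∃ x : Over.mk t ⟶ ConstAct.X R A, x ≫ ConstAct.quot R A G = y) ∧
    (∀ x x' : Over.mk t ⟶ ConstAct.X R A, x ≫ ConstAct.quot R A G = x' ≫ ConstAct.quot R A G →
      ∃ g : Over.mk t ⟶ ConstAct.GR R G, lift g x' ≫ (ConstAct.gaction R A G).act = x) := by
  obtain ⟨φ, rfl⟩ := Spec.map_surjective t
  letI : Algebra R Ω := φ.hom.toAlgebra
  haveI := smulCommClass_inv R A G
  haveI := isInvariant_inv R A G
  haveI := finite_inv R A G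
  refine ⟨fun y => ?_, fun x x' h => ?_⟩
  · obtain ⟨η, hη⟩ := exists_pt R (B := ConstAct.inv R A G) (K := Ω) y
    obtain ⟨ξ, hξ⟩ := exists_extend (A := ConstAct.inv R A G) (B := A) Subtype.val_injective η.toRingHom
    refine ⟨CoactBr.pt ({ ξ with commutes' := fun r => ?_ } : A →ₐ[R] Ω), Eq.trans (Over.OverMorphism.ext ?_) hη⟩
    · exact (RingHom.congr_fun hξ (algebraMap R _ r)).trans (η.commutes r)
    · show Spec.map (CommRingCat.ofHom ξ) ≫ Spec.map (CommRingCat.ofHom (ConstAct.inv R A G).val.toRingHom) =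
        Spec.map (CommRingCat.ofHom η.toRingHom)
      rw [← Spec.map_comp, ← CommRingCat.ofHom_comp]
      exact congrArg (fun k => Spec.map (CommRingCat.ofHom k)) hξ
  · obtain ⟨ξ, rfl⟩ := exists_pt R (B := A) (K := Ω) x
    obtain ⟨ξ', rfl⟩ := exists_pt R (B := A) (K := Ω) x'
    have h' : Spec.map (CommRingCat.ofHom ξ.toRingHom) ≫ Spec.map (CommRingCat.ofHom (ConstAct.inv R A G).val.toRingHom) =
        Spec.map (CommRingCat.ofHom ξ'.toRingHom) ≫ Spec.map (CommRingCat.ofHom (ConstAct.inv R A G).val.toRingHom) :=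
      congrArg CommaMorphism.left h
    rw [← Spec.map_comp, ← Spec.map_comp, ← CommRingCat.ofHom_comp, ← CommRingCat.ofHom_comp] at h'
    obtain ⟨g, hg⟩ := exists_smul_eq (A := ConstAct.inv R A G) (G := G) ξ'.toRingHom ξ.toRingHom
      (congrArg CommRingCat.Hom.hom (Spec.map_injective h')).symm
    refine ⟨CoactBr.pt (ConstAct.constPt R G g⁻¹), ?_⟩
    refine (ConstAct.gaction_constPt R A G g⁻¹ ξ').trans ?_
    rw [inv_inv, ← ConstAct.pt_comp_toAlgEquiv]
    exact congrArg CoactBr.pt (AlgHom.ext fun b => (hg b).symm)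

/-- An invariant map of sheaves is invariant under each element. -/
theorem act_comp_eq {N : AlgSp.Sp (Spec (CommRingCat.of R))}
    (ψ : (AlgSp.yon (Spec (CommRingCat.of R))).obj (ConstAct.X R A) ⟶ N)
    (hψ : (AlgSp.yon _).map (ConstAct.gaction R A G).act ≫ ψ =
      (AlgSp.yon _).map (snd (ConstAct.GR R G) (ConstAct.X R A)) ≫ ψ) (g : G) :
    (AlgSp.yon _).map (ConstAct.act R A G g) ≫ ψ = ψ := by
  have e := ConstAct.gaction_constPt R A G g⁻¹ (AlgHom.id R A)
  rw [inv_inv, CoactBr.pt_id, Category.id_comp] at e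
  rw [← e, Functor.map_comp, Category.assoc, hψ, ← Functor.map_comp_assoc, lift_snd]
  exact (congrArg (· ≫ ψ) ((AlgSp.yon (Spec (CommRingCat.of R))).map_id _)).trans (Category.id_comp ψ)

/-- The quotient map is universal for invariant maps to algebraic spaces. -/
theorem hcat [Algebra.FiniteType R A] (N : AlgSp.Space (Spec (CommRingCat.of R)))
    (ψ : (AlgSp.yon (Spec (CommRingCat.of R))).obj (ConstAct.X R A) ⟶ N.obj)
    (hψ : (AlgSp.yon _).map (ConstAct.gaction R A G).act ≫ ψ =
      (AlgSp.yon _).map (snd (ConstAct.GR R G) (ConstAct.X R A)) ≫ ψ) :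
    ∃! χ : (AlgSp.yon _).obj (ConstAct.specInv R A G) ⟶ N.obj,
      (AlgSp.yon _).map (ConstAct.quot R A G) ≫ χ = ψ := by
  haveI := smulCommClass_inv R A G
  haveI := isInvariant_inv R A G
  haveI := finite_inv R A G
  let s : Spec (CommRingCat.of (ConstAct.inv R A G)) ⟶ Spec (CommRingCat.of R) :=
    Spec.map (CommRingCat.ofHom (algebraMap R (ConstAct.inv R A G)))
  let eA : aff s A ≅ ConstAct.X R A := isoA R A (ConstAct.inv R A G)
  let e0 : aff s (ConstAct.inv R A G) ≅ ConstAct.specInv R A G := iso0 R (ConstAct.inv R A G)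
  have hval : CommRingCat.ofHom (algebraMap (ConstAct.inv R A G) A) =
      CommRingCat.ofHom (ConstAct.inv R A G).val.toRingHom := CommRingCat.hom_ext (RingHom.ext fun _ => rfl)
  have hq : toBase s A ≫ e0.hom = eA.hom ≫ ConstAct.quot R A G := Over.OverMorphism.ext
    ((toBase_iso0_left R A (ConstAct.inv R A G)).trans
      ((congrArg Spec.map hval).trans (isoA_comp_left R A (ConstAct.inv R A G) (ConstAct.quot R A G)).symm))
  refine existsUnique_transport ((AlgSp.yon _).mapIso eA) ((AlgSp.yon _).mapIso e0) ((AlgSp.yon _).map (toBase s A))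
    ((AlgSp.yon _).map (ConstAct.quot R A G)) ?_ ψ
    (existsUnique_descent A G s Subtype.val_injective N.property ((AlgSp.yon _).map eA.hom ≫ ψ) fun g => by
      have hg : CommRingCat.ofHom (MulSemiringAction.toAlgHom (ConstAct.inv R A G) A g).toRingHom =
          CommRingCat.ofHom (MulSemiringAction.toRingHom G A g) := CommRingCat.hom_ext (RingHom.ext fun _ => rfl)
      have e : affMap s (MulSemiringAction.toAlgHom (ConstAct.inv R A G) A g) ≫ eA.hom =
          eA.hom ≫ ConstAct.act R A G g := Over.OverMorphism.ext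
        ((comp_isoA_left R A (ConstAct.inv R A G) (affMap s (MulSemiringAction.toAlgHom (ConstAct.inv R A G) A g))).trans
          ((congrArg Spec.map hg).trans (isoA_comp_left R A (ConstAct.inv R A G) (ConstAct.act R A G g)).symm))
      rw [← Functor.map_comp_assoc, e, Functor.map_comp, Category.assoc, act_comp_eq R A G ψ hψ g])
  show (AlgSp.yon _).map (toBase s A) ≫ (AlgSp.yon _).map e0.hom =
    (AlgSp.yon _).map eA.hom ≫ (AlgSp.yon _).map (ConstAct.quot R A G)
  rw [← Functor.map_comp, ← Functor.map_comp, hq]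

end Groth.Agent.ConstActX
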