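import Groth.Agent.QuotLib.CatModuli
import Groth.Agent.FibBase.FpMaps

/-!
The 2-fibre product of a scheme with a quotient stack over a scheme, and its points.
-/

set_option autoImplicit false
set_option backward.isDefEq.respectTransparency false
set_option backward.isDefEq.respectTransparency.types false
set_option linter.style.haveILetI false

universe u

open CategoryTheory CategoryTheory.Limits MonoidalCategory CartesianMonoidalCategory MonObj GrpObj AlgebraicGeometry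
  AlgSp Opposite

noncomputable section

namespace Groth.Agent.ConstActX.FibProd

open Groth.Agent.FibBase Groth.Agent.AlgSpLib Groth.Agent.AlgStLib Groth.Agent.QuotLib

variable {S : Scheme.{u}} {G : Over S} [GrpObj G] {X Y : Over S} {aX : AlgGrp.Action G X} {f : X ⟶ Y}
  {π : AlgSt.QuotSt Scheme.fppfPrecoverage G aX ⥤ᵇ AlgSt.ofSch Y}
  (hπ : restrHom π = (yon S).map f) {Y' X' : Over S} {g : Y' ⟶ Y}

/-- The fibre product of the scheme with the quotient stack. -/
abbrev FP (π : AlgSt.QuotSt Scheme.fppfPrecoverage G aX ⥤ᵇ AlgSt.ofSch Y) (g : Y' ⟶ Y) :=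
  FibCat.fp (AlgSt.ofSpMap ((yon S).map g)) π

/-- The two bases of an object agree. -/
theorem base_eq (x : (FP π g).obj) : x.obj.fst.base = x.obj.snd.base := by
  haveI : (AlgSt.ofSch Y).p.IsHomLift (𝟙 x.obj.fst.base) x.obj.iso.hom := x.property
  exact (IsHomLift.codomain_eq (AlgSt.ofSch Y).p (𝟙 x.obj.fst.base) x.obj.iso.hom).symm.trans (π.w_obj x.obj.snd)

/-- The image in the base of the quotient of an object. -/
theorem secAt_snd (x : (FP π g).obj) :
    secAt π x.obj.snd = ⟨eqToHom (base_eq x).symm ≫ x.obj.fst.sec.down ≫ g⟩ := by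
  haveI : (AlgSt.ofSch Y).p.IsHomLift (𝟙 x.obj.fst.base) x.obj.iso.hom := x.property
  have hh : x.obj.iso.hom.hom = eqToHom ((base_eq x).trans (π.w_obj x.obj.snd).symm) :=
    (IsHomLift.fac' (AlgSt.ofSch Y).p (𝟙 x.obj.fst.base) x.obj.iso.hom).trans (by simp)
  have h2 := x.obj.iso.hom.map_sec
  rw [hh] at h2
  apply ULift.ext
  have h3 : eqToHom ((base_eq x).trans (π.w_obj x.obj.snd).symm) ≫ (π.obj x.obj.snd).sec.down =
      x.obj.fst.sec.down ≫ g := congrArg ULift.down h2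
  show eqToHom (π.w_obj x.obj.snd).symm ≫ (π.obj x.obj.snd).sec.down = _
  rw [← h3, eqToHom_trans_assoc]

/-- A morphism of objects from morphisms of the components. -/
theorem exists_hom (x y : (FP π g).obj) (a : x.obj.fst ⟶ y.obj.fst) (b : x.obj.snd ⟶ y.obj.snd)
    (hb : b.base = eqToHom (base_eq x).symm ≫ a.hom ≫ eqToHom (base_eq y)) :
    ∃ h : x ⟶ y, h.hom.fst = a ∧ h.hom.snd = b := by
  haveI : (AlgSt.ofSch Y).p.IsHomLift (𝟙 x.obj.fst.base) x.obj.iso.hom := x.property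
  haveI : (AlgSt.ofSch Y).p.IsHomLift (𝟙 y.obj.fst.base) y.obj.iso.hom := y.property
  refine ⟨ObjectProperty.homMk { fst := a, snd := b, w := ?_ }, rfl, rfl⟩
  refine Stk.EltObj.hom_ext ?_
  have hx : x.obj.iso.hom.hom = eqToHom ((base_eq x).trans (π.w_obj x.obj.snd).symm) :=
    (IsHomLift.fac' (AlgSt.ofSch Y).p (𝟙 x.obj.fst.base) x.obj.iso.hom).trans (by simp)
  have hy : y.obj.iso.hom.hom = eqToHom ((base_eq y).trans (π.w_obj y.obj.snd).symm) :=
    (IsHomLift.fac' (AlgSt.ofSch Y).p (𝟙 y.obj.fst.base) y.obj.iso.hom).trans (by simp)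
  have hbm : (π.map b).hom = eqToHom (π.w_obj x.obj.snd) ≫ b.base ≫ eqToHom (π.w_obj y.obj.snd).symm :=
    Functor.congr_hom π.w b
  show a.hom ≫ y.obj.iso.hom.hom = x.obj.iso.hom.hom ≫ (π.map b).hom
  refine (congrArg (fun k => a.hom ≫ k) hy).trans (Eq.trans ?_
    (congrArg₂ (fun k l => k ≫ l) hx hbm).symm)
  rw [hb]
  simp

variable {prX : X' ⟶ X} {prY : X' ⟶ Y'} (hsq : prX ≫ f = prY ≫ g)

include hπ hsq in
theorem lift_iso_aux : pshMap (BasedFunctor.comp (AlgSt.ofSpMap ((yon S).map prY)) (AlgSt.ofSpMap ((yon S).map g))) =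
    pshMap (BasedFunctor.comp (BasedFunctor.comp (AlgSt.ofSpMap ((yon S).map prX))
      (AlgSt.quotMap Scheme.fppfPrecoverage G aX)) π) := by
  have e1 : pshMap (BasedFunctor.comp (AlgSt.quotMap Scheme.fppfPrecoverage G aX) π) = ((yon S).map f).hom := by
    exact congrArg (fun k : (yon S).obj X ⟶ (yon S).obj Y => k.hom) hπ
  rw [pshMap_comp, pshMap_ofPshMap, pshMap_ofPshMap,
    show BasedFunctor.comp (BasedFunctor.comp (AlgSt.ofSpMap ((yon S).map prX))
      (AlgSt.quotMap Scheme.fppfPrecoverage G aX)) π = BasedFunctor.comp (AlgSt.ofSpMap ((yon S).map prX))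
      (BasedFunctor.comp (AlgSt.quotMap Scheme.fppfPrecoverage G aX) π) from rfl,
    pshMap_comp, pshMap_ofPshMap, e1]
  refine congrArg (fun k : (yon S).obj X' ⟶ (yon S).obj Y => k.hom) (?_ : (yon S).map prY ≫ (yon S).map g = (yon S).map prX ≫ (yon S).map f)
  rw [← Functor.map_comp, ← Functor.map_comp, hsq]

/-- The map of the base change of the scheme to the fibre product. -/
def lift : AlgSt.ofSch X' ⥤ᵇ FP π g :=
  FibCat.fpLift (AlgSt.ofSpMap ((yon S).map prY))
    (BasedFunctor.comp (AlgSt.ofSpMap ((yon S).map prX)) (AlgSt.quotMap Scheme.fppfPrecoverage G aX))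
    (pshIso _ _ fun z => congrArg (fun k => k.app (op z.base) z.sec) (lift_iso_aux hπ hsq))

/-- The object over a point of the base change. -/
abbrev obj {T : Over S} (z : T ⟶ X') : (FP π g).obj := (lift hπ hsq).obj ⟨T, ⟨z⟩⟩

variable {N : Sp S}

/-- The map of sheaves on the base change induced by a functor on the fibre product. -/
def psi (φ : FP π g ⥤ᵇ AlgSt.ofSp N) : (yon S).obj X' ⟶ N := spHom (BasedFunctor.comp (lift hπ hsq) φ)

theorem psi_app (φ : FP π g ⥤ᵇ AlgSt.ofSp N) {T : Over S} (z : T ⟶ X') :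
    (psi hπ hsq φ).hom.app (op T) ⟨z⟩ = secAt φ (obj hπ hsq z) := rfl

/-- Translated points have the same image. -/
theorem psi_eq (φ : FP π g ⥤ᵇ AlgSt.ofSp N) {T : Over S} (z z' : T ⟶ X') (hY : z ≫ prY = z' ≫ prY) (γ : T ⟶ G)
    (hγ : CartesianMonoidalCategory.lift γ (z' ≫ prX) ≫ aX.act = z ≫ prX) :
    (yon S).map z ≫ psi hπ hsq φ = (yon S).map z' ≫ psi hπ hsq φ := by
  apply (AlgSp.J S).uliftYonedaEquiv.injective
  rw [GrothendieckTopology.uliftYonedaEquiv_comp, GrothendieckTopology.uliftYonedaEquiv_comp,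
    GrothendieckTopology.uliftYonedaEquiv_uliftYoneda_map, GrothendieckTopology.uliftYonedaEquiv_uliftYoneda_map,
    psi_app, psi_app]
  obtain ⟨k, hk, -⟩ := (hom_triv_iff (K := Scheme.fppfPrecoverage) (G := G) (aX := aX) (𝟙 T) (z ≫ prX)
    (z' ≫ prX)).2 γ (by rw [Category.id_comp]; exact hγ)
  obtain ⟨m, hm, -⟩ := exists_hom (obj hπ hsq z) (obj hπ hsq z')
    ⟨𝟙 T, congrArg ULift.up ((Category.id_comp _).trans hY.symm)⟩ k (by
      refine hk.trans ?_
      simp)
  have h1 := secAt_map φ m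
  have hmb : (FP π g).p.map m = 𝟙 T := congrArg Stk.EltObj.Hom.hom hm
  rw [hmb] at h1
  exact h1.symm.trans (res_id N.obj _ rfl _)

variable [Flat G.hom] [LocallyOfFinitePresentation G.hom]
  (hlift : ∀ {T : Over S} (a : T ⟶ X) (b : T ⟶ Y'), a ≫ f = b ≫ g → ∃ z : T ⟶ X', z ≫ prX = a ∧ z ≫ prY = b)

include hlift in
/-- A functor on the fibre product is determined by its map of sheaves on the base change. -/
theorem secAt_eq (φ : FP π g ⥤ᵇ AlgSt.ofSp N) (χ : (yon S).obj Y' ⟶ N) (h : (yon S).map prY ≫ χ = psi hπ hsq φ)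
    (x : (FP π g).obj) :
    secAt (BasedFunctor.comp (FibCat.fpFst (AlgSt.ofSpMap ((yon S).map g)) π) (AlgSt.ofSpMap χ)) x = secAt φ x := by
  let A := x.obj.snd
  let c : A.P ⟶ x.obj.fst.base := A.π ≫ eqToHom (base_eq x).symm
  have hA : A.φ ≫ f = (c ≫ x.obj.fst.sec.down) ≫ g := by
    let t := trivHom A (𝟙 A.P) A.φ (Category.id_comp _)
    have hb : (AlgSt.QuotSt Scheme.fppfPrecoverage G aX).p.map t = A.π := Category.id_comp _
    have h1 := secAt_map π t
    rw [hb, secAt_snd x] at h1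
    have h2 : secAt π (triv Scheme.fppfPrecoverage G aX A.φ) = ⟨A.φ ≫ f⟩ :=
      congrArg (fun (k : (yon S).obj X ⟶ (yon S).obj Y) => k.hom.app (op A.P) ⟨A.φ⟩) hπ
    have h3 := congrArg ULift.down (h1.trans h2)
    exact h3.symm.trans (by simp [c]; rfl)
  obtain ⟨z, hzX, hzY⟩ := hlift A.φ (c ≫ x.obj.fst.sec.down) hA
  obtain ⟨m, hm, -⟩ := exists_hom (obj hπ hsq z) x ⟨c, congrArg ULift.up hzY.symm⟩
    (trivHom A (𝟙 A.P) (z ≫ prX) ((Category.id_comp _).trans hzX.symm)) (by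
      show 𝟙 A.P ≫ A.π = eqToHom _ ≫ c ≫ eqToHom _
      simp [c])
  have hc : fppf c.left := by
    rw [Over.comp_left]
    exact MorphismProperty.comp_mem _ _ _ (fppf_π A) (fppf_of _)
  refine (Presieve.isSeparatedFor_singleton.1 (isSheafFor_singleton_fppf N c hc).isSeparatedFor) ?_
  have h1 := secAt_map φ m
  have hmb : (FP π g).p.map m = c := congrArg Stk.EltObj.Hom.hom hm
  rw [hmb] at h1
  refine Eq.trans ?_ (h1.symm)
  rw [secAt_comp_ofPshMap]
  refine (NatTrans.naturality_apply χ.hom c.op _).symm.trans ?_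
  have h4 := congrArg (fun (k : (yon S).obj X' ⟶ N) => k.hom.app (op A.P) ⟨z⟩) h
  refine Eq.trans ?_ h4
  refine congrArg (χ.hom.app (op A.P)) ?_
  apply ULift.ext
  refine Eq.trans ?_ hzY.symm
  exact congrArg (fun k => c ≫ k) ((congrArg (fun k => k ≫ x.obj.fst.sec.down) (eqToHom_refl x.obj.fst.base rfl)).trans
    (Category.id_comp _))

include hπ hsq hlift in
/-- The first projection is a coarse moduli space if the map to the base change is universal for invariant maps. -/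
theorem isCoarseModuli_fpFst (hgeom : AlgSt.GeomPtBij π)
    (hsurj : ∀ (Ω : Type u) [Field Ω] [IsAlgClosed Ω] (t : Spec (CommRingCat.of Ω) ⟶ S) (y : Over.mk t ⟶ Y),
      ∃ x : Over.mk t ⟶ X, x ≫ f = y)
    (hcat : ∀ (N : Sp S), IsAlgSpace N → ∀ φ : FP π g ⥤ᵇ AlgSt.ofSp N,
      ∃! χ : (yon S).obj Y' ⟶ N, (yon S).map prY ≫ χ = psi hπ hsq φ) :
    AlgSt.IsCoarseModuli (FibCat.fpFst (AlgSt.ofSpMap ((yon S).map g)) π) := by
  refine ⟨⟨IsAlgSpace.yon_obj Y', fun N hN φ => ?_⟩, fun Ω _ _ t => ⟨fun m => ?_, fun x y h => ?_⟩⟩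
  · obtain ⟨χ, hχ, huniq⟩ := hcat N hN φ
    refine ⟨χ, ⟨pshIso _ _ (secAt_eq hπ hsq hlift φ χ hχ)⟩, fun χ' ⟨e⟩ => huniq χ' ?_⟩
    refine ObjectProperty.hom_ext _ ?_
    ext T ⟨z⟩
    have h1 := secAt_eq_of_iso e (obj hπ hsq z)
    rw [secAt_comp_ofPshMap] at h1
    refine Eq.trans ?_ h1
    refine congrArg (χ'.hom.app T) ?_
    apply ULift.ext
    exact (((congrArg (fun k => k ≫ z ≫ prY) (eqToHom_refl T.unop rfl))).trans (Category.id_comp _)).symm
  · obtain ⟨y⟩ := m
    obtain ⟨x, hx⟩ := hsurj Ω t (y ≫ g)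
    obtain ⟨z, -, hz⟩ := hlift x y hx
    refine ⟨⟨obj hπ hsq z, rfl⟩, ?_⟩
    apply ULift.ext
    exact ((congrArg (fun k => k ≫ z ≫ prY) (eqToHom_refl (Over.mk t) rfl)).trans (Category.id_comp _)).trans hz
  · obtain ⟨x, hx⟩ := x
    obtain ⟨y, hy⟩ := y
    change x.obj.fst.base = Over.mk t at hx
    change y.obj.fst.base = Over.mk t at hy
    let A : (AlgSt.QuotSt Scheme.fppfPrecoverage G aX).p.Fiber (Over.mk t) := ⟨x.obj.snd, (base_eq x).symm.trans hx⟩
    let B : (AlgSt.QuotSt Scheme.fppfPrecoverage G aX).p.Fiber (Over.mk t) := ⟨y.obj.snd, (base_eq y).symm.trans hy⟩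
    have h' : eqToHom hx.symm ≫ x.obj.fst.sec.down = eqToHom hy.symm ≫ y.obj.fst.sec.down :=
      congrArg ULift.down h
    have hfib : ∀ (z : (FP π g).obj) (hz : z.obj.fst.base = Over.mk t),
        AlgSt.fibSec π (T := Over.mk t) ⟨z.obj.snd, (base_eq z).symm.trans hz⟩ =
          ⟨eqToHom hz.symm ≫ z.obj.fst.sec.down ≫ g⟩ := fun z hz => by
      have h1 := congrArg ULift.down (secAt_snd z)
      apply ULift.ext
      have h2 : eqToHom (π.w_obj z.obj.snd).symm ≫ (π.obj z.obj.snd).sec.down =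
          eqToHom (base_eq z).symm ≫ z.obj.fst.sec.down ≫ g := h1
      show eqToHom ((π.w_obj z.obj.snd).trans ((base_eq z).symm.trans hz)).symm ≫ (π.obj z.obj.snd).sec.down =
        eqToHom hz.symm ≫ z.obj.fst.sec.down ≫ g
      rw [← eqToHom_trans ((base_eq z).symm.trans hz).symm (π.w_obj z.obj.snd).symm, Category.assoc]
      refine (congrArg (fun k => eqToHom ((base_eq z).symm.trans hz).symm ≫ k) h2).trans ?_
      exact eqToHom_trans_assoc _ _ _
    obtain ⟨i⟩ := (hgeom Ω t).2 A B ((hfib x hx).trans (Eq.trans (by rw [reassoc_of% h']) (hfib y hy).symm))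
    let b : x.obj.snd ≅ y.obj.snd := (Functor.Fiber.fiberInclusion).mapIso i
    have hb : b.hom.base = eqToHom (((base_eq x).symm.trans hx).trans ((base_eq y).symm.trans hy).symm) := by
      haveI := i.hom.2
      exact (IsHomLift.fac' (AlgSt.QuotSt Scheme.fppfPrecoverage G aX).p (𝟙 (Over.mk t)) i.hom.1).trans
        (by rw [Category.id_comp, eqToHom_trans])
    let a : x.obj.fst ≅ y.obj.fst := eltIso (eqToIso (hx.trans hy.symm)) (by
      apply ULift.ext
      show eqToHom (hx.trans hy.symm) ≫ y.obj.fst.sec.down = x.obj.fst.sec.down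
      rw [← eqToHom_trans hx hy.symm, Category.assoc, ← h', eqToHom_trans_assoc, eqToHom_refl, Category.id_comp])
    obtain ⟨m, hm₁, hm₂⟩ := exists_hom x y a.hom b.hom (by
      rw [hb]
      show eqToHom _ = eqToHom _ ≫ eqToHom (hx.trans hy.symm) ≫ eqToHom _
      simp)
    have w : (AlgSt.ofSpMap ((yon S).map g)).map a.hom ≫ y.obj.iso.hom = x.obj.iso.hom ≫ π.map b.hom := by
      have hw := m.hom.w
      rw [hm₁, hm₂] at hw
      exact hw
    have hl : (FibCat.fp (AlgSt.ofSpMap ((yon S).map g)) π).p.IsHomLift (𝟙 (Over.mk t)) (fpIsoMk a b w).hom := by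
      refine IsHomLift.of_fac' _ _ _ hx hy ?_
      show eqToHom (hx.trans hy.symm) = _
      simp
    have hl' : (FibCat.fp (AlgSt.ofSpMap ((yon S).map g)) π).p.IsHomLift (𝟙 (Over.mk t)) (fpIsoMk a b w).inv := by
      refine IsHomLift.of_fac' _ _ _ hy hx ?_
      show eqToHom (hx.trans hy.symm).symm = _
      simp
    exact ⟨⟨⟨(fpIsoMk a b w).hom, hl⟩, ⟨(fpIsoMk a b w).inv, hl'⟩, Subtype.ext (fpIsoMk a b w).hom_inv_id,
      Subtype.ext (fpIsoMk a b w).inv_hom_id⟩⟩

end Groth.Agent.ConstActX.FibProd
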