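import Groth.Agent.ConstActX.DescendBC

/-!
Base changes of the quotient map of a finite group acting on an affine scheme along affine schemes over the quotient.
-/

set_option autoImplicit false
set_option backward.isDefEq.respectTransparency false
set_option backward.isDefEq.respectTransparency.types false
set_option linter.style.haveILetI false

universe u

open CategoryTheory CategoryTheory.Limits AlgebraicGeometry Opposite TensorProduct

noncomputable section

namespace Groth.Agent.ConstActX

section Generic

variable {S : Scheme.{u}} {A0 A : Type u} [CommRing A0] [CommRing A] [Algebra A0 A] {s : Spec (CommRingCat.of A0) ⟶ S}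
  {G : Type u} [Group G] [MulSemiringAction G A] [SMulCommClass G A0 A] {X Y : Over S} {f : X ⟶ Y}
  (eX : aff s A ≅ X) (e0 : aff s A0 ≅ Y) (hq : toBase s A ≫ e0.hom = eX.hom ≫ f)
  {act : G → (X ⟶ X)} (hact : ∀ g, affMap s (MulSemiringAction.toAlgHom A0 A g) ≫ eX.hom = eX.hom ≫ act g)
  (C : Type u) [CommRing C] [Algebra A0 C]

/-- The projection of the base change to the scheme acted on. -/
def prA : aff s (A ⊗[A0] C) ⟶ X :=
  affMap s (Algebra.TensorProduct.includeLeft (R := A0) (S := A0) (A := A) (B := C)) ≫ eX.hom

/-- The projection of the base change to the base. -/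
def prC : aff s (A ⊗[A0] C) ⟶ aff s C :=
  affMap s (Algebra.TensorProduct.includeRight (R := A0) (A := A) (B := C))

include hq in
theorem prA_quot : prA eX C ≫ f = prC (s := s) (A := A) C ≫ toBase s C ≫ e0.hom := by
  rw [prA, prC, Category.assoc, ← hq, ← Category.assoc, ← Category.assoc, affMap_toBase, affMap_toBase]

include hq in
theorem exists_bc_lift {T : Over S} (a : T ⟶ X) (b : T ⟶ aff s C) (h : a ≫ f = b ≫ toBase s C ≫ e0.hom) :
    ∃ z : T ⟶ aff s (A ⊗[A0] C), z ≫ prA eX C = a ∧ z ≫ prC (A := A) C = b := by
  obtain ⟨l, hl, hl'⟩ := exists_lift_tensor s (a ≫ eX.inv) b (by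
    rw [← cancel_mono e0.hom, Category.assoc, Category.assoc, Category.assoc, hq, Iso.inv_hom_id_assoc, h])
  exact ⟨l, by rw [prA, ← Category.assoc, hl, Category.assoc, Iso.inv_hom_id, Category.comp_id], hl'⟩

variable [Module.Finite A0 A] [Finite G]

theorem gT_prC (g : G) : affMap s (gT A G C g) ≫ prC (A := A) C = prC (A := A) C := by
  rw [prC, ← affMap_comp, gT_includeRight]

include hact in
theorem gT_prA (g : G) : affMap s (gT A G C g) ≫ prA eX C = prA eX C ≫ act g := by
  rw [prA, Category.assoc, ← hact, ← Category.assoc, ← Category.assoc, ← affMap_comp, ← affMap_comp, gT_includeLeft]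

end Generic

open MonoidalCategory CartesianMonoidalCategory in
/-- A finite group element translates every point through a constant point of the constant group scheme. -/
theorem exists_translate (R : Type u) [CommRing R] (A : Type u) [CommRing A] [Algebra R A] (G : Type u) [Group G]
    [Fintype G] [DecidableEq G] [MulSemiringAction G A] [SMulCommClass G R A] {T : Over (Spec (CommRingCat.of R))}
    (x : T ⟶ ConstAct.X R A) (g : G) :
    ∃ γ : T ⟶ ConstAct.GR R G,
      CartesianMonoidalCategory.lift γ x ≫ (ConstAct.gaction R A G).act = x ≫ ConstAct.act R A G g := by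
  refine ⟨x ≫ CoactBr.pt (ConstAct.constPt R G g⁻¹), ?_⟩
  have e := ConstAct.gaction_constPt R A G g⁻¹ (AlgHom.id R A)
  rw [inv_inv, CoactBr.pt_id, Category.id_comp] at e
  rw [← e, ← Category.assoc x, comp_lift, Category.comp_id]

/-- The identifications of the affine schemes of a ring and its invariants with the schemes over the base. -/
theorem exists_setup (R : Type u) [CommRing R] (A : Type u) [CommRing A] [Algebra R A] (G : Type u) [Group G]
    [MulSemiringAction G A] [SMulCommClass G R A] [SMulCommClass G (ConstAct.inv R A G) A] :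
    ∃ (s : Spec (CommRingCat.of (ConstAct.inv R A G)) ⟶ Spec (CommRingCat.of R))
      (eX : aff s A ≅ ConstAct.X R A) (e0 : aff s (ConstAct.inv R A G) ≅ ConstAct.specInv R A G),
      toBase s A ≫ e0.hom = eX.hom ≫ ConstAct.quot R A G ∧
      (∀ g : G, affMap s (MulSemiringAction.toAlgHom (ConstAct.inv R A G) A g) ≫ eX.hom =
        eX.hom ≫ ConstAct.act R A G g) ∧
      e0.hom.left = 𝟙 _ ∧ s = (ConstAct.specInv R A G).hom := by
  let s : Spec (CommRingCat.of (ConstAct.inv R A G)) ⟶ Spec (CommRingCat.of R) :=
    Spec.map (CommRingCat.ofHom (algebraMap R (ConstAct.inv R A G)))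
  let eA : aff s A ≅ ConstAct.X R A := isoA R A (ConstAct.inv R A G)
  let e0 : aff s (ConstAct.inv R A G) ≅ ConstAct.specInv R A G := iso0 R (ConstAct.inv R A G)
  have hval : CommRingCat.ofHom (algebraMap (ConstAct.inv R A G) A) =
      CommRingCat.ofHom (ConstAct.inv R A G).val.toRingHom := CommRingCat.hom_ext (RingHom.ext fun _ => rfl)
  refine ⟨s, eA, e0, Over.OverMorphism.ext ((toBase_iso0_left R A (ConstAct.inv R A G)).trans
    ((congrArg Spec.map hval).trans (isoA_comp_left R A (ConstAct.inv R A G) (ConstAct.quot R A G)).symm)),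
    fun g => ?_, ?_, rfl⟩
  · have hg : CommRingCat.ofHom (MulSemiringAction.toAlgHom (ConstAct.inv R A G) A g).toRingHom =
        CommRingCat.ofHom (MulSemiringAction.toRingHom G A g) := CommRingCat.hom_ext (RingHom.ext fun _ => rfl)
    exact Over.OverMorphism.ext
      ((comp_isoA_left R A (ConstAct.inv R A G) (affMap s (MulSemiringAction.toAlgHom (ConstAct.inv R A G) A g))).trans
        ((congrArg Spec.map hg).trans (isoA_comp_left R A (ConstAct.inv R A G) (ConstAct.act R A G g)).symm))
  · show (iso0 R (ConstAct.inv R A G)).hom.left = _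
    rw [iso0, eqToIso.hom, Over.eqToHom_left]
    rfl

end Groth.Agent.ConstActX
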