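import Groth.Agent.S16960
import Groth.Agent.ConstActX.QuotBC
import Groth.Agent.ConstActX.FibProd

/-!
Flat affine base changes of the quotient stack of a finite group have the base as coarse moduli space.
-/

set_option autoImplicit false
set_option backward.isDefEq.respectTransparency false
set_option backward.isDefEq.respectTransparency.types false
set_option linter.style.haveILetI false

universe u

open CategoryTheory CategoryTheory.Limits AlgebraicGeometry Opposite TensorProduct AlgSp

noncomputable section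

namespace Groth.Agent.ConstActX

/-- An affine scheme flat over an affine base is the spectrum of a flat algebra. -/
theorem exists_aff_iso {S : Scheme.{u}} {A0 : Type u} [CommRing A0] {s : Spec (CommRingCat.of A0) ⟶ S} {Y : Over S}
    (e0 : aff s A0 ≅ Y) {Y' : Over S} [IsAffine Y'.left] (g : Y' ⟶ Y) [Flat g.left] :
    ∃ (C : Type u) (_ : CommRing C) (_ : Algebra A0 C) (_ : Module.Flat A0 C) (eY : aff s C ≅ Y'),
      eY.hom ≫ g = toBase s C ≫ e0.hom := by
  let h : Y' ⟶ aff s A0 := g ≫ e0.inv
  let χ : CommRingCat.of A0 ⟶ Γ(Y'.left, ⊤) := Spec.preimage (Y'.left.isoSpec.inv ≫ h.left)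
  have hχ : Spec.map χ = Y'.left.isoSpec.inv ≫ h.left := Spec.map_preimage _
  letI : Algebra A0 Γ(Y'.left, ⊤) := χ.hom.toAlgebra
  haveI : IsIso e0.inv.left := inferInstanceAs (IsIso ((Over.forget S).map e0.inv))
  haveI : Flat (Spec.map χ) := by
    rw [hχ]
    show Flat (Y'.left.isoSpec.inv ≫ g.left ≫ e0.inv.left)
    infer_instance
  haveI hflat : Module.Flat A0 Γ(Y'.left, ⊤) :=
    (HasRingHomProperty.Spec_iff (P := @Flat)).1 (inferInstance : Flat (Spec.map χ))
  have halg : CommRingCat.ofHom (algebraMap A0 Γ(Y'.left, ⊤)) = χ := rfl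
  have hA0 : CommRingCat.ofHom (algebraMap A0 A0) = 𝟙 _ := CommRingCat.hom_ext (RingHom.ext fun _ => rfl)
  have hs : h.left ≫ s = Y'.hom := by
    have w := Over.w h
    change h.left ≫ Spec.map _ ≫ s = Y'.hom at w
    rw [hA0, Spec.map_id] at w
    exact (congrArg (fun k => h.left ≫ k) (Category.id_comp s)).symm.trans w
  let eY : aff s Γ(Y'.left, ⊤) ≅ Y' := Over.isoMk Y'.left.isoSpec.symm (by
    show Y'.left.isoSpec.inv ≫ Y'.hom = Spec.map _ ≫ s
    rw [halg, hχ, Category.assoc, hs])
  refine ⟨_, inferInstance, inferInstance, hflat, eY, ?_⟩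
  have e1 : eY.hom ≫ h = toBase s Γ(Y'.left, ⊤) := Over.OverMorphism.ext (hχ.symm.trans (congrArg Spec.map halg.symm))
  rw [← e1, Category.assoc]
  show _ = eY.hom ≫ (g ≫ e0.inv) ≫ e0.hom
  rw [Category.assoc, Iso.inv_hom_id, Category.comp_id]

variable (R : Type u) [CommRing R] (A : Type u) [CommRing A] [Algebra R A] [Algebra.FiniteType R A]
  (G : Type u) [Group G] [Fintype G] [DecidableEq G] [MulSemiringAction G A] [SMulCommClass G R A]
  (π : ConstAct.quotSt R A G Scheme.fppfPrecoverage ⥤ᵇ AlgSt.ofSch (ConstAct.specInv R A G))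
  (hπ : BasedFunctor.comp
      (AlgSt.quotMap Scheme.fppfPrecoverage (ConstAct.GR R G) (ConstAct.gaction R A G)) π =
    AlgSt.ofSpMap ((AlgSp.yon (Spec (CommRingCat.of R))).map (ConstAct.quot R A G)))

include hπ in
theorem restrHom_eq : QuotLib.restrHom π = (yon _).map (ConstAct.quot R A G) :=
  (AlgStLib.spHom_congr (eqToIso hπ)).trans (AlgStLib.spHom_ofSpMap _)

include hπ in
/-- The projection of a flat affine base change is a coarse moduli space. -/
theorem isCoarseModuli_bc [IsNoetherianRing R] (Y' : Over (Spec (CommRingCat.of R))) [IsAffine Y'.left]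
    (g : Y' ⟶ ConstAct.specInv R A G) [Flat g.left] :
    AlgSt.IsCoarseModuli
      (FibCat.fpFst (AlgSt.ofSpMap ((AlgSp.yon (Spec (CommRingCat.of R))).map g)) π) := by
  haveI := smulCommClass_inv R A G
  haveI := isInvariant_inv R A G
  haveI := finite_inv R A G
  obtain ⟨s, eX, e0, hq, hact, -, -⟩ := exists_setup R A G
  obtain ⟨C, _, _, _, eY, heY⟩ := exists_aff_iso e0 g
  obtain ⟨hcm, -⟩ := Groth.Agent.S16960.result R A G π hπ
  obtain ⟨_, _, _⟩ := gr_props R G
  have hsq : prA eX C ≫ ConstAct.quot R A G = (prC (s := s) (A := A) C ≫ eY.hom) ≫ g := by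
    rw [prA_quot eX e0 hq, Category.assoc, heY]
  refine FibProd.isCoarseModuli_fpFst (restrHom_eq R A G π hπ) hsq (fun {T} a b h => ?_) hcm.2
    (fun Ω _ _ t y => (horb R A G Ω t).1 y) fun N hN φ => ?_
  · obtain ⟨z, hz, hz'⟩ := exists_bc_lift eX e0 hq C a (b ≫ eY.inv) (by
      rw [h, ← heY, Category.assoc, Iso.inv_hom_id_assoc])
    exact ⟨z, hz, by rw [← Category.assoc, hz', Category.assoc, Iso.inv_hom_id, Category.comp_id]⟩
  · obtain ⟨χ, hχ, hu⟩ := existsUnique_descent_bc A G s Subtype.val_injective C hN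
      (FibProd.psi (restrHom_eq R A G π hπ) hsq φ) fun g' => by
        obtain ⟨γ, hγ⟩ := exists_translate R A G (prA eX C) g'
        have e := FibProd.psi_eq (restrHom_eq R A G π hπ) hsq φ (affMap s (gT A G C g')) (𝟙 _)
          (by rw [← Category.assoc, gT_prC, Category.id_comp]) γ
          (by rw [Category.id_comp, hγ, gT_prA eX hact])
        rw [e, CategoryTheory.Functor.map_id, Category.id_comp]
    refine ⟨(yon _).map eY.inv ≫ χ, ?_, fun χ' h => ?_⟩
    · show (yon _).map _ ≫ _ ≫ χ = _
      rw [← Functor.map_comp_assoc, Category.assoc, Iso.hom_inv_id, Category.comp_id]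
      exact hχ
    · have e := hu ((yon _).map eY.hom ≫ χ') (by
        show (yon _).map _ ≫ _ ≫ χ' = _
        rw [← Functor.map_comp_assoc]
        exact h)
      rw [← e, ← Functor.map_comp_assoc, Iso.inv_hom_id, CategoryTheory.Functor.map_id, Category.id_comp]

end Groth.Agent.ConstActX
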