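import Groth.Agent.ConstActX.Bridge

/-!
Descent of invariant maps after a flat base change of the invariants.
-/

set_option autoImplicit false
set_option backward.isDefEq.respectTransparency false
set_option backward.isDefEq.respectTransparency.types false
set_option linter.style.haveILetI false

universe u

open CategoryTheory CategoryTheory.Limits AlgebraicGeometry Opposite TensorProduct AlgSp

noncomputable section

namespace Groth.Agent.ConstActX

variable {S : Scheme.{u}} {A0 : Type u} [CommRing A0] (A : Type u) [CommRing A] [Algebra A0 A] [Module.Finite A0 A]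
  (G : Type u) [Group G] [Finite G] [MulSemiringAction G A] [SMulCommClass G A0 A]

/-- The action on a base change on the right. -/
@[implicit_reducible]
def bcAction (C : Type u) [CommRing C] [Algebra A0 C] : MulSemiringAction G (A ⊗[A0] C) where
  smul g z := gT A G C g z
  one_smul z := by
    change gT A G C (1 : G) z = z
    induction z using TensorProduct.induction_on with
    | zero => simp
    | tmul a b => simp
    | add a b ha hb => rw [map_add, ha, hb]
  mul_smul g h z := by
    change gT A G C (g * h) z = gT A G C g (gT A G C h z)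
    induction z using TensorProduct.induction_on with
    | zero => simp
    | tmul a b => simp [mul_smul]
    | add a b ha hb => rw [map_add, map_add, map_add, ha, hb]
  smul_zero g := map_zero _
  smul_add g := map_add _
  smul_one g := map_one _
  smul_mul g := map_mul _

/-- An affine scheme over an intermediate base, over the base. -/
def affTrans (s : Spec (CommRingCat.of A0) ⟶ S) (C D : Type u) [CommRing C] [CommRing D] [Algebra A0 C]
    [Algebra A0 D] [Algebra C D] [IsScalarTower A0 C D] :
    aff (Spec.map (CommRingCat.ofHom (algebraMap A0 C)) ≫ s) D ≅ aff s D :=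
  eqToIso (congrArg (Over.mk (X := S) (Y := Spec (CommRingCat.of D))) (by
    rw [← Category.assoc, ← Spec.map_comp, ← CommRingCat.ofHom_comp, ← IsScalarTower.algebraMap_eq]))

theorem affTrans_left (s : Spec (CommRingCat.of A0) ⟶ S) (C D : Type u) [CommRing C] [CommRing D] [Algebra A0 C]
    [Algebra A0 D] [Algebra C D] [IsScalarTower A0 C D] : (affTrans s C D).hom.left = 𝟙 _ := by
  rw [affTrans, eqToIso.hom, Over.eqToHom_left]
  rfl

theorem affTrans_comm (s : Spec (CommRingCat.of A0) ⟶ S) {C D D' : Type u} [CommRing C] [CommRing D] [CommRing D']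
    [Algebra A0 C] [Algebra A0 D] [Algebra C D] [IsScalarTower A0 C D] [Algebra A0 D'] [Algebra C D']
    [IsScalarTower A0 C D'] (h : D →ₐ[C] D') (h' : D →ₐ[A0] D') (heq : ∀ x, h x = h' x) :
    affMap (Spec.map (CommRingCat.ofHom (algebraMap A0 C)) ≫ s) h ≫ (affTrans s C D).hom =
      (affTrans s C D').hom ≫ affMap s h' := by
  refine Over.OverMorphism.ext ?_
  rw [Over.comp_left, Over.comp_left, affTrans_left, affTrans_left]
  refine (Category.comp_id _).trans (Eq.trans ?_ (Category.id_comp _).symm)
  exact congrArg Spec.map (CommRingCat.hom_ext (RingHom.ext heq))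

/-- The image of a commutative square with isomorphisms. -/
theorem map_sq {C D : Type*} [Category* C] [Category* D] (F : C ⥤ D) {X X' Y Y' : C} (a : X ≅ X') (b : Y ≅ Y')
    (f : X ⟶ Y) (f' : X' ⟶ Y') (h : f ≫ b.hom = a.hom ≫ f') :
    F.map f ≫ (F.mapIso b).hom = (F.mapIso a).hom ≫ F.map f' := by
  rw [Functor.mapIso_hom, Functor.mapIso_hom, ← F.map_comp, ← F.map_comp, h]

omit [Module.Finite A0 A] in
theorem affTrans_toBase (s : Spec (CommRingCat.of A0) ⟶ S) {C T : Type u} [CommRing C] [CommRing T]
    [Algebra A0 C] [Algebra A0 T] [Algebra C T] [IsScalarTower A0 C T] (r : C →ₐ[A0] T)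
    (hr : ∀ c, algebraMap C T c = r c) :
    toBase (Spec.map (CommRingCat.ofHom (algebraMap A0 C)) ≫ s) T ≫ (affTrans s C C).hom =
      (affTrans s C T).hom ≫ affMap s r := by
  have e : toBase (Spec.map (CommRingCat.ofHom (algebraMap A0 C)) ≫ s) T =
      affMap (Spec.map (CommRingCat.ofHom (algebraMap A0 C)) ≫ s) (Algebra.ofId C T) := rfl
  rw [e]
  exact affTrans_comm s (Algebra.ofId C T) r hr

/-- Invariant maps descend uniquely to an intermediate base. -/
theorem existsUnique_descent_trans (s : Spec (CommRingCat.of A0) ⟶ S) {C T : Type u} [CommRing C] [CommRing T]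
    [Algebra A0 C] [Algebra A0 T] [Algebra C T] [IsScalarTower A0 C T] [Module.Finite C T] [MulSemiringAction G T]
    [SMulCommClass G C T] [Algebra.IsInvariant C T G] (hinjT : Function.Injective (algebraMap C T)) (r : C →ₐ[A0] T)
    (hr : ∀ c, algebraMap C T c = r c) (a : G → (T →ₐ[A0] T)) (ha : ∀ g t, g • t = a g t) {N : Sp S}
    (hN : IsAlgSpace N) (ψ : (yon S).obj (aff s T) ⟶ N) (hψ : ∀ g : G, (yon S).map (affMap s (a g)) ≫ ψ = ψ) :
    ∃! χ : (yon S).obj (aff s C) ⟶ N, (yon S).map (affMap s r) ≫ χ = ψ := by
  refine existsUnique_transport ((yon S).mapIso (affTrans s C T)) ((yon S).mapIso (affTrans s C C))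
    ((yon S).map (toBase (Spec.map (CommRingCat.ofHom (algebraMap A0 C)) ≫ s) T)) ((yon S).map (affMap s r))
    (map_sq (yon S) _ _ _ _ (affTrans_toBase s r hr)) ψ
    (existsUnique_descent T G (Spec.map (CommRingCat.ofHom (algebraMap A0 C)) ≫ s) hinjT hN
      ((yon S).map (affTrans s C T).hom ≫ ψ) fun g => ?_)
  rw [← Functor.map_comp_assoc, affTrans_comm s (MulSemiringAction.toAlgHom C T g) (a g) (ha g), Functor.map_comp,
    Category.assoc, hψ]

variable [Algebra.IsInvariant A0 A G] (s : Spec (CommRingCat.of A0) ⟶ S)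

/-- Invariant maps on a flat base change descend uniquely. -/
theorem existsUnique_descent_bc (hinj : Function.Injective (algebraMap A0 A)) (C : Type u) [CommRing C] [Algebra A0 C]
    [Module.Flat A0 C] {N : Sp S} (hN : IsAlgSpace N) (ψ : (yon S).obj (aff s (A ⊗[A0] C)) ⟶ N)
    (hψ : ∀ g : G, (yon S).map (affMap s (gT A G C g)) ≫ ψ = ψ) :
    ∃! χ : (yon S).obj (aff s C) ⟶ N,
      (yon S).map (affMap s (Algebra.TensorProduct.includeRight (R := A0) (A := A) (B := C))) ≫ χ = ψ := by
  letI := bcAction (A0 := A0) A G C
  letI : Algebra C (A ⊗[A0] C) := Algebra.TensorProduct.rightAlgebra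
  haveI : IsScalarTower A0 C (A ⊗[A0] C) := IsScalarTower.of_algebraMap_eq fun a =>
    ((Algebra.TensorProduct.includeRight (R := A0) (A := A) (B := C)).commutes a).symm
  haveI : Module.Finite C (A ⊗[A0] C) := finite_includeRight A C
  haveI : SMulCommClass G C (A ⊗[A0] C) := ⟨fun g c z => by
    rw [Algebra.smul_def, Algebra.smul_def, smul_mul']
    congr 1
    show gT A G C g (Algebra.TensorProduct.includeRight (R := A0) (A := A) c) = _
    exact AlgHom.congr_fun (gT_includeRight A G C g) c⟩
  haveI : Algebra.IsInvariant C (A ⊗[A0] C) G := ⟨fun z hz => exists_includeRight_of_invariant A G C z hz⟩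
  exact existsUnique_descent_trans G s (C := C) (T := A ⊗[A0] C) (Algebra.TensorProduct.includeRight_injective hinj)
    (Algebra.TensorProduct.includeRight (R := A0) (A := A) (B := C)) (fun _ => rfl) (gT A G C) (fun _ _ => rfl)
    hN ψ hψ

end Groth.Agent.ConstActX
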