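import Groth.Agent.EtLC12.StrictStalk
import Mathlib.LinearAlgebra.TensorProduct.Vanishing
import Mathlib.RingTheory.TensorProduct.Finite
import Mathlib.RingTheory.Finiteness.Basic
import Mathlib.RingTheory.FinitePresentation

/-!
The étale local ring of an affine scheme at a geometric point as a directed union of étale algebras, and
tensor products of it with finite algebras.
-/

set_option autoImplicit false
set_option backward.isDefEq.respectTransparency false
set_option backward.isDefEq.respectTransparency.types false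
set_option linter.style.haveILetI false

universe u

open CategoryTheory CategoryTheory.Limits AlgebraicGeometry Opposite TensorProduct

noncomputable section

namespace Groth.Agent.ConstActX

open Groth.Agent.EtLC12.StrictStalk

variable {R : Type u} [CommRing R] {Ω : Type u} [Field Ω] [IsSepClosed Ω] (φ : R →+* Ω)

/-- The geometric point of a homomorphism to a separably closed field. -/
abbrev geomPt : Spec (CommRingCat.of Ω) ⟶ Spec (CommRingCat.of R) := Spec.map (CommRingCat.ofHom φ)

/-- The étale local ring at the geometric point. -/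
def Stalk : Type u := EtBase.etaleLocalRing (geomPt φ)

instance : CommRing (Stalk φ) := inferInstanceAs (CommRing (EtBase.etaleLocalRing (geomPt φ)))

/-- The trivial neighbourhood. -/
def base : Nbhd (geomPt φ) :=
  ⟨CommRingCat.of R, 𝟙 _, inferInstance, CommRingCat.ofHom φ, Category.comp_id _⟩

instance algStalk : Algebra R (Stalk φ) := ((base φ).germ.hom : R →+* Stalk φ).toAlgebra

/-- An étale neighbourhood as a ring. -/
def Ring (N : Nbhd (geomPt φ)) : Type u := N.B

instance (N : Nbhd (geomPt φ)) : CommRing (Ring φ N) := inferInstanceAs (CommRing N.B)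

instance algRing (N : Nbhd (geomPt φ)) : Algebra R (Ring φ N) :=
  ((Spec.preimage N.g).hom : R →+* Ring φ N).toAlgebra

theorem map_algebraMap_ring (N : Nbhd (geomPt φ)) :
    Spec.map (CommRingCat.ofHom (algebraMap R (Ring φ N))) = N.g := Spec.map_preimage N.g

theorem etale_ring (N : Nbhd (geomPt φ)) : Algebra.Etale R (Ring φ N) := by
  have h : Etale (Spec.map (CommRingCat.ofHom (algebraMap R (Ring φ N)))) := by
    rw [map_algebraMap_ring]; exact N.etale
  exact RingHom.etale_algebraMap.mp ((HasRingHomProperty.Spec_iff (P := @Etale)).mp h)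

/-- The point of a neighbourhood. -/
def pt (N : Nbhd (geomPt φ)) : Ring φ N →+* Ω := N.φ.hom

theorem pt_algebraMap (N : Nbhd (geomPt φ)) : (pt φ N).comp (algebraMap R (Ring φ N)) = φ := by
  refine congrArg CommRingCat.Hom.hom (Spec.map_injective ?_ :
    Spec.preimage N.g ≫ N.φ = CommRingCat.ofHom φ)
  rw [Spec.map_comp, Spec.map_preimage]
  exact N.w

/-- The germ map. -/
def germ (N : Nbhd (geomPt φ)) : Ring φ N →ₐ[R] Stalk φ where
  toRingHom := N.germ.hom
  commutes' r := by
    have h := Nbhd.germ_comp (N := base φ) (M := N) (Spec.preimage N.g)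
      (by show Spec.map _ ≫ 𝟙 _ = N.g; rw [Category.comp_id, Spec.map_preimage])
      (CommRingCat.hom_ext (pt_algebraMap φ N))
    exact RingHom.congr_fun (congrArg CommRingCat.Hom.hom h) r

/-- Evaluation at the point. -/
def evPt : Stalk φ →+* Ω := (ev (geomPt φ)).hom

theorem evPt_germ (N : Nbhd (geomPt φ)) (b : Ring φ N) : evPt φ (germ φ N b) = pt φ N b :=
  germ_ev_apply N b

theorem evPt_algebraMap (r : R) : evPt φ (algebraMap R (Stalk φ) r) = φ r :=
  germ_ev_apply (base φ) r

instance henselian' : HenselianLocalRing (Stalk φ) := henselian (ξ := geomPt φ)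

theorem evPt_isUnit (r : Stalk φ) : IsUnit r ↔ evPt φ r ≠ 0 := isUnit_iff r

theorem isSepClosed_residue : IsSepClosed (IsLocalRing.ResidueField (Stalk φ)) := by
  obtain ⟨h, h'⟩ := isStrictlyHenselian (ξ := geomPt φ)
  exact h'

/-- A map of neighbourhoods given by a morphism of their schemes. -/
theorem exists_refine {N M : Nbhd (geomPt φ)} (c : M.obj ⟶ N.obj)
    (hc : (Scheme.pointSmallEtale (geomPt φ)).fiber.map c M.pt = N.pt) :
    ∃ a : Ring φ N →ₐ[R] Ring φ M, (germ φ M).comp a = germ φ N ∧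
      Spec.map (CommRingCat.ofHom (a : Ring φ N →+* Ring φ M)) = (c.left : Spec M.B ⟶ Spec N.B) := by
  obtain ⟨ψ, hψ⟩ := Spec.map_surjective (c.left : Spec M.B ⟶ Spec N.B)
  have h : Spec.map M.φ ≫ (c.left : Spec M.B ⟶ Spec N.B) = Spec.map N.φ := congrArg CommaMorphism.left hc
  have h₁ : Spec.map ψ ≫ N.g = M.g := by rw [hψ]; exact MorphismProperty.Over.w c
  have hg := Nbhd.germ_comp ψ h₁ (Spec.map_injective (by rw [Spec.map_comp, hψ, h]))
  have hp : Spec.preimage N.g ≫ ψ = Spec.preimage M.g := Spec.map_injective (by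
    rw [Spec.map_comp, Spec.map_preimage, Spec.map_preimage, h₁])
  refine ⟨{ toRingHom := ψ.hom, commutes' := fun r => ?_ }, AlgHom.ext fun x => ?_, hψ⟩
  · exact RingHom.congr_fun (congrArg CommRingCat.Hom.hom hp) r
  · exact RingHom.congr_fun (congrArg CommRingCat.Hom.hom hg) x

/-- Two neighbourhoods have a common refinement. -/
theorem exists_both (N M : Nbhd (geomPt φ)) : ∃ (P : Nbhd (geomPt φ)) (a : Ring φ N →ₐ[R] Ring φ P)
    (b : Ring φ M →ₐ[R] Ring φ P), (germ φ P).comp a = germ φ N ∧ (germ φ P).comp b = germ φ M := by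
  obtain ⟨⟨T, t⟩, ⟨a₀, ha₀⟩, ⟨b₀, hb₀⟩, -⟩ := IsCofilteredOrEmpty.cone_objs
    ((Scheme.pointSmallEtale (geomPt φ)).fiber.elementsMk N.obj N.pt)
    ((Scheme.pointSmallEtale (geomPt φ)).fiber.elementsMk M.obj M.pt)
  obtain ⟨a, ha⟩ : ∃ a : T ⟶ N.obj, (Scheme.pointSmallEtale (geomPt φ)).fiber.map a t = N.pt := ⟨a₀, ha₀⟩
  obtain ⟨b, hb⟩ : ∃ b : T ⟶ M.obj, (Scheme.pointSmallEtale (geomPt φ)).fiber.map b t = M.pt := ⟨b₀, hb₀⟩
  obtain ⟨P, j, rfl⟩ := exists_nbhd T t
  obtain ⟨ψa, hψa, -⟩ := exists_refine φ (j ≫ a)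
    ((congr($((Scheme.pointSmallEtale (geomPt φ)).fiber.map_comp j a) P.pt)).trans ha)
  obtain ⟨ψb, hψb, -⟩ := exists_refine φ (j ≫ b)
    ((congr($((Scheme.pointSmallEtale (geomPt φ)).fiber.map_comp j b) P.pt)).trans hb)
  exact ⟨P, ψa, ψb, hψa, hψb⟩

/-- Finitely many germs are defined on one neighbourhood. -/
theorem exists_germs {ι : Type*} [Finite ι] (f : ι → Stalk φ) :
    ∃ (N : Nbhd (geomPt φ)) (b : ι → Ring φ N), ∀ i, germ φ N (b i) = f i := by
  classical
  haveI := Fintype.ofFinite ι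
  suffices h : ∀ s : Finset ι, ∃ (N : Nbhd (geomPt φ)) (b : ι → Ring φ N), ∀ i ∈ s, germ φ N (b i) = f i by
    obtain ⟨N, b, hb⟩ := h Finset.univ
    exact ⟨N, b, fun i => hb i (Finset.mem_univ _)⟩
  intro s
  induction s using Finset.induction_on with
  | empty => exact ⟨base φ, fun _ => 0, fun i hi => absurd hi (Finset.notMem_empty i)⟩
  | insert i s hi ih =>
    obtain ⟨N, b, hb⟩ := ih
    obtain ⟨M, c, hc⟩ := exists_germ_eq (ξ := geomPt φ) (f i)
    obtain ⟨P, a, a', ha, ha'⟩ := exists_both φ N M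
    refine ⟨P, fun j => if j = i then a' c else a (b j), fun j hj => ?_⟩
    rcases eq_or_ne j i with rfl | hne
    · simp only [if_true]
      exact (AlgHom.congr_fun ha' c).trans hc
    · simp only [if_neg hne]
      exact (AlgHom.congr_fun ha (b j)).trans (hb j (Finset.mem_of_mem_insert_of_ne hj hne))

/-- Equal germs agree on a refinement. -/
theorem exists_eq {N : Nbhd (geomPt φ)} {x y : Ring φ N} (h : germ φ N x = germ φ N y) :
    ∃ (P : Nbhd (geomPt φ)) (a : Ring φ N →ₐ[R] Ring φ P), (germ φ P).comp a = germ φ N ∧ a x = a y := by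
  have h' : (Scheme.pointSmallEtale (geomPt φ)).toPresheafFiber N.obj N.pt (EtBase.OO _)
        ((Scheme.ΓSpecIso N.B).inv x) =
      (Scheme.pointSmallEtale (geomPt φ)).toPresheafFiber N.obj N.pt (EtBase.OO _)
        ((Scheme.ΓSpecIso N.B).inv y) := h
  rw [GrothendieckTopology.Point.toPresheafFiber_eq_iff'] at h'
  obtain ⟨T, f, t, ht, hxy⟩ := h'
  obtain ⟨P, j, rfl⟩ := exists_nbhd T t
  obtain ⟨a, ha, hm⟩ := exists_refine φ (j ≫ f)
    ((congr($((Scheme.pointSmallEtale (geomPt φ)).fiber.map_comp j f) P.pt)).trans ht)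
  refine ⟨P, a, ha, ?_⟩
  have key : ∀ z : Ring φ N, a z = (Scheme.ΓSpecIso P.B).hom (j.left.appTop (f.left.appTop
      ((Scheme.ΓSpecIso N.B).inv z))) := fun z => by
    have h1 : f.left.appTop ≫ j.left.appTop =
        (Spec.map (CommRingCat.ofHom (a : Ring φ N →+* Ring φ P)) : Spec P.B ⟶ Spec N.B).appTop := by
      rw [hm]; exact (Scheme.Hom.comp_appTop _ _).symm
    have h3 : (Scheme.ΓSpecIso N.B).inv ≫ (f.left.appTop ≫ j.left.appTop) ≫ (Scheme.ΓSpecIso P.B).hom =
        CommRingCat.ofHom (a : Ring φ N →+* Ring φ P) := by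
      rw [h1, Scheme.ΓSpecIso_naturality, Iso.inv_hom_id_assoc]
    exact (RingHom.congr_fun (congrArg CommRingCat.Hom.hom h3) z).symm
  rw [key, key]
  exact congrArg (fun q => (Scheme.ΓSpecIso P.B).hom (j.left.appTop q)) hxy

/-- Finitely many equalities of germs hold on a refinement. -/
theorem exists_eqs {ι : Type*} [Finite ι] {N : Nbhd (geomPt φ)} (x y : ι → Ring φ N)
    (h : ∀ i, germ φ N (x i) = germ φ N (y i)) :
    ∃ (P : Nbhd (geomPt φ)) (a : Ring φ N →ₐ[R] Ring φ P), (germ φ P).comp a = germ φ N ∧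
      ∀ i, a (x i) = a (y i) := by
  classical
  haveI := Fintype.ofFinite ι
  suffices hs : ∀ s : Finset ι, ∃ (P : Nbhd (geomPt φ)) (a : Ring φ N →ₐ[R] Ring φ P),
      (germ φ P).comp a = germ φ N ∧ ∀ i ∈ s, a (x i) = a (y i) by
    obtain ⟨P, a, ha, he⟩ := hs Finset.univ
    exact ⟨P, a, ha, fun i => he i (Finset.mem_univ _)⟩
  intro s
  induction s using Finset.induction_on with
  | empty => exact ⟨N, AlgHom.id R _, AlgHom.comp_id _, fun i hi => absurd hi (Finset.notMem_empty i)⟩
  | insert i s hi ih =>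
    obtain ⟨P, a, ha, he⟩ := ih
    obtain ⟨Q, b, hb, hbe⟩ := exists_eq φ (N := P) (x := a (x i)) (y := a (y i))
      (((AlgHom.congr_fun ha (x i)).trans (h i)).trans (AlgHom.congr_fun ha (y i)).symm)
    refine ⟨Q, b.comp a, by rw [← AlgHom.comp_assoc, hb, ha], fun j hj => ?_⟩
    rcases Finset.mem_insert.1 hj with rfl | hj
    · exact hbe
    · exact congrArg b (he j hj)

section Tensor

variable (A : Type u) [CommRing A] [Algebra R A] [Module.Finite R A]

/-- The germ map on a tensor product with a finite algebra. -/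
def germT (N : Nbhd (geomPt φ)) : A ⊗[R] Ring φ N →ₐ[A] A ⊗[R] Stalk φ :=
  Algebra.TensorProduct.map (AlgHom.id A A) (germ φ N)

/-- The map of tensor products of a refinement. -/
def refT {N M : Nbhd (geomPt φ)} (a : Ring φ N →ₐ[R] Ring φ M) : A ⊗[R] Ring φ N →ₐ[A] A ⊗[R] Ring φ M :=
  Algebra.TensorProduct.map (AlgHom.id A A) a

theorem germT_refT {N M : Nbhd (geomPt φ)} {a : Ring φ N →ₐ[R] Ring φ M}
    (ha : (germ φ M).comp a = germ φ N) (z : A ⊗[R] Ring φ N) :
    germT φ A M (refT φ A a z) = germT φ A N z := by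
  induction z using TensorProduct.induction_on with
  | zero => simp
  | tmul p q => simp [germT, refT, ← AlgHom.congr_fun ha q]
  | add p q hp hq => simp [hp, hq]

theorem exists_sum_tmul {n : ℕ} {m : Fin n → A} (hm : Submodule.span R (Set.range m) = ⊤)
    {B : Type u} [AddCommGroup B] [Module R B] (z : A ⊗[R] B) : ∃ b : Fin n → B, z = ∑ i, m i ⊗ₜ[R] b i := by
  induction z using TensorProduct.induction_on with
  | zero => exact ⟨0, by simp⟩
  | tmul a b =>
    obtain ⟨c, hc⟩ := (Submodule.mem_span_range_iff_exists_fun R).1 (hm.ge (trivial : a ∈ ⊤))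
    refine ⟨fun i => c i • b, ?_⟩
    rw [← hc, TensorProduct.sum_tmul]
    simp [TensorProduct.smul_tmul]
  | add p q hp hq =>
    obtain ⟨b, rfl⟩ := hp
    obtain ⟨b', rfl⟩ := hq
    exact ⟨b + b', by simp [TensorProduct.tmul_add, Finset.sum_add_distrib]⟩

/-- A finite family in the tensor product comes from one neighbourhood. -/
theorem exists_germT {ι : Type*} [Finite ι] (z : ι → A ⊗[R] Stalk φ) :
    ∃ (N : Nbhd (geomPt φ)) (y : ι → A ⊗[R] Ring φ N), ∀ i, germT φ A N (y i) = z i := by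
  obtain ⟨n, m, hm⟩ := Module.Finite.exists_fin (R := R) (M := A)
  choose b hb using fun i => exists_sum_tmul A hm (z i)
  obtain ⟨N, c, hc⟩ := exists_germs φ (fun p : ι × Fin n => b p.1 p.2)
  refine ⟨N, fun i => ∑ k, m k ⊗ₜ[R] c (i, k), fun i => ?_⟩
  rw [hb i, map_sum]
  exact Finset.sum_congr rfl fun k _ => by simp [germT, hc]

/-- An element dying in the tensor product dies on a refinement. -/
theorem exists_zero {N : Nbhd (geomPt φ)} (z : A ⊗[R] Ring φ N) (hz : germT φ A N z = 0) :
    ∃ (P : Nbhd (geomPt φ)) (a : Ring φ N →ₐ[R] Ring φ P), (germ φ P).comp a = germ φ N ∧ refT φ A a z = 0 := by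
  obtain ⟨n, m, hm⟩ := Module.Finite.exists_fin (R := R) (M := A)
  obtain ⟨b, rfl⟩ := exists_sum_tmul A hm z
  obtain ⟨k, c, y, hy, hc⟩ := TensorProduct.vanishesTrivially_of_sum_tmul_eq_zero R (m := m)
    (n := fun i => germ φ N (b i)) hm (by simpa [germT, map_sum] using hz)
  obtain ⟨M, y', hy'⟩ := exists_germs φ y
  obtain ⟨P, a, a', ha, ha'⟩ := exists_both φ N M
  obtain ⟨Q, e, he, hee⟩ := exists_eqs φ (N := P) (fun i : Fin n => a (b i)) (fun i => ∑ j, c i j • a' (y' j))
    (fun i => by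
      rw [map_sum]
      refine (AlgHom.congr_fun ha (b i)).trans ((hy i).trans (Finset.sum_congr rfl fun j _ => ?_))
      rw [map_smul, ← hy' j]
      exact congrArg (c i j • ·) (AlgHom.congr_fun ha' (y' j)).symm)
  refine ⟨Q, e.comp a, by rw [← AlgHom.comp_assoc, he, ha], ?_⟩
  have h1 : ∀ i, refT φ A (e.comp a) (m i ⊗ₜ[R] b i) = ∑ j, (c i j • m i) ⊗ₜ[R] e (a' (y' j)) := fun i => by
    simp only [refT, Algebra.TensorProduct.map_tmul, AlgHom.coe_id, id_eq, AlgHom.comp_apply, hee i, map_sum,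
      map_smul, TensorProduct.tmul_sum, TensorProduct.smul_tmul]
  rw [map_sum]
  simp only [h1]
  rw [Finset.sum_comm]
  exact Finset.sum_eq_zero fun j _ => by rw [← TensorProduct.sum_tmul, hc j, TensorProduct.zero_tmul]

/-- A map from a finitely presented algebra descends to a neighbourhood. -/
theorem exists_descend (U : Type u) [CommRing U] [Algebra A U] [Algebra.FinitePresentation A U]
    (τ : U →ₐ[A] A ⊗[R] Stalk φ) :
    ∃ (N : Nbhd (geomPt φ)) (τ' : U →ₐ[A] A ⊗[R] Ring φ N), (germT φ A N).comp τ' = τ := by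
  classical
  obtain ⟨n, p, hp, hfg⟩ := Algebra.FinitePresentation.out (R := A) (A := U)
  obtain ⟨s, hs⟩ := hfg
  obtain ⟨N, y, hy⟩ := exists_germT φ A (fun i => τ (p (MvPolynomial.X i)))
  have hval : ∀ (M : Nbhd (geomPt φ)) (v : Fin n → A ⊗[R] Ring φ M), (∀ i, germT φ A M (v i) = τ (p (MvPolynomial.X i))) →
      (germT φ A M).comp (MvPolynomial.aeval v) = τ.comp p := fun M v hv =>
    MvPolynomial.algHom_ext fun i => by simpa using hv i
  suffices h : ∀ t : Finset (MvPolynomial (Fin n) A), ((t : Set (MvPolynomial (Fin n) A)) ⊆ (RingHom.ker p.toRingHom : Ideal (MvPolynomial (Fin n) A))) →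
      ∃ (M : Nbhd (geomPt φ)) (v : Fin n → A ⊗[R] Ring φ M), (∀ i, germT φ A M (v i) = τ (p (MvPolynomial.X i))) ∧
        ∀ f ∈ t, MvPolynomial.aeval v f = 0 by
    obtain ⟨M, v, hv, hvs⟩ := h s (hs ▸ Ideal.subset_span)
    have hker : RingHom.ker p.toRingHom ≤ RingHom.ker (MvPolynomial.aeval v).toRingHom := by
      rw [← hs, Ideal.span_le]
      exact fun f hf => hvs f hf
    refine ⟨M, AlgHom.liftOfSurjective p hp (MvPolynomial.aeval v) hker, ?_⟩
    refine AlgHom.ext fun x => ?_
    obtain ⟨f, rfl⟩ := hp x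
    rw [AlgHom.comp_apply, AlgHom.liftOfSurjective_apply]
    exact AlgHom.congr_fun (hval M v hv) f
  intro t
  induction t using Finset.induction_on with
  | empty => exact fun _ => ⟨N, y, hy, fun f hf => absurd hf (Finset.notMem_empty f)⟩
  | insert f t _ ih =>
    intro ht
    rw [Finset.coe_insert, Set.insert_subset_iff] at ht
    obtain ⟨M, v, hv, hvt⟩ := ih ht.2
    obtain ⟨P, a, ha, haz⟩ := exists_zero φ A (MvPolynomial.aeval v f) (by
      have := AlgHom.congr_fun (hval M v hv) f
      rw [AlgHom.comp_apply, AlgHom.comp_apply] at this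
      rw [this, show p f = 0 from ht.1, map_zero])
    refine ⟨P, fun i => refT φ A a (v i), fun i => by rw [germT_refT φ A ha, hv], fun g hg => ?_⟩
    rw [← MvPolynomial.comp_aeval, AlgHom.comp_apply]
    rcases Finset.mem_insert.1 hg with rfl | hg
    · exact haz
    · rw [hvt g hg, map_zero]

end Tensor

end Groth.Agent.ConstActX
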