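import Groth.Agent.ConstActX.CoarseBC

/-!
Invariant families of morphisms to a scheme glue to a morphism on a scheme flat over the quotient.
-/

set_option autoImplicit false
set_option backward.isDefEq.respectTransparency false
set_option backward.isDefEq.respectTransparency.types false
set_option linter.style.haveILetI false

universe u

open CategoryTheory CategoryTheory.Limits AlgebraicGeometry Opposite TensorProduct AlgSp

noncomputable section

namespace Groth.Agent.ConstActX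

variable {S : Scheme.{u}} {A0 A : Type u} [CommRing A0] [CommRing A] [Algebra A0 A] [Module.Finite A0 A]
  {s : Spec (CommRingCat.of A0) ⟶ S} {G : Type u} [Group G] [Finite G] [MulSemiringAction G A] [SMulCommClass G A0 A]
  [Algebra.IsInvariant A0 A G] {X Y : Over S} {f : X ⟶ Y}
  (eX : aff s A ≅ X) (e0 : aff s A0 ≅ Y) (hq : toBase s A ≫ e0.hom = eX.hom ≫ f)
  {act : G → (X ⟶ X)} (hact : ∀ g, affMap s (MulSemiringAction.toAlgHom A0 A g) ≫ eX.hom = eX.hom ≫ act g)
  (hinj : Function.Injective (algebraMap A0 A)) {E : Over S} (g : E ⟶ Y) [Flat g.left] {W : Over S}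
  (F : ∀ {P : Over S} (x : P ⟶ X) (b : P ⟶ E), x ≫ f = b ≫ g → (P ⟶ W))

/-- A morphism whose pullbacks are the members of the family. -/
def IsGood {T : Over S} (a : T ⟶ E) (r : T ⟶ W) : Prop :=
  ∀ (P : Over S) (x : P ⟶ X) (k : P ⟶ T) (h : x ≫ f = (k ≫ a) ≫ g), F x (k ≫ a) h = k ≫ r

variable (hnat : ∀ {P P' : Over S} (k : P' ⟶ P) (x : P ⟶ X) (b : P ⟶ E) (h : x ≫ f = b ≫ g)
    (h' : (k ≫ x) ≫ f = (k ≫ b) ≫ g), F (k ≫ x) (k ≫ b) h' = k ≫ F x b h)
  (hinv : ∀ {P : Over S} (x : P ⟶ X) (b : P ⟶ E) (a : G) (h : x ≫ f = b ≫ g) (h' : (x ≫ act a) ≫ f = b ≫ g),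
    F (x ≫ act a) b h' = F x b h)

theorem F_congr {P : Over S} {x x' : P ⟶ X} {b b' : P ⟶ E} (hx : x = x') (hb : b = b') (h : x ≫ f = b ≫ g)
    (h' : x' ≫ f = b' ≫ g) : F x b h = F x' b' h' := by
  subst hx hb
  rfl

omit [Module.Finite A0 A] [Algebra.IsInvariant A0 A G] [Finite G] in
theorem IsGood.comp {T T' : Over S} {a : T ⟶ E} {r : T ⟶ W} (h : IsGood g F a r) (j : T' ⟶ T) :
    IsGood g F (j ≫ a) (j ≫ r) := fun P x k hk => by
  have hk' : x ≫ f = ((k ≫ j) ≫ a) ≫ g := by rw [hk, Category.assoc, Category.assoc, Category.assoc, Category.assoc]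
  exact (F_congr g F rfl (Category.assoc _ _ _).symm hk hk').trans ((h P x (k ≫ j) hk').trans (Category.assoc _ _ _))

include eX e0 hq hact hinj hnat hinv in
/-- Locally there is exactly one morphism with the prescribed pullbacks. -/
theorem existsUnique_good {T : Over S} [IsAffine T.left] (a : T ⟶ E) [Flat a.left] :
    ∃! r : T ⟶ W, IsGood g F a r := by
  haveI : Flat (a ≫ g).left := inferInstanceAs (Flat (a.left ≫ g.left))
  obtain ⟨C, _, _, _, eY, heY⟩ := exists_aff_iso e0 (a ≫ g)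
  have h0 : prA eX C ≫ f = (prC (s := s) (A := A) C ≫ eY.hom ≫ a) ≫ g := by
    rw [prA_quot eX e0 hq, Category.assoc, Category.assoc, heY]
  let F0 := F (prA eX C) (prC (s := s) (A := A) C ≫ eY.hom ≫ a) h0
  have hF0 : ∀ e : G, affMap s (gT A G C e) ≫ F0 = F0 := fun e => by
    have hc : affMap s (gT A G C e) ≫ prC (s := s) (A := A) C ≫ eY.hom ≫ a = prC (s := s) (A := A) C ≫ eY.hom ≫ a := by
      rw [← Category.assoc, gT_prC]
    have h1 : (affMap s (gT A G C e) ≫ prA eX C) ≫ f =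
        (affMap s (gT A G C e) ≫ prC (s := s) (A := A) C ≫ eY.hom ≫ a) ≫ g := by
      rw [Category.assoc, h0, ← Category.assoc]
    have h2 : (prA eX C ≫ act e) ≫ f = (prC (s := s) (A := A) C ≫ eY.hom ≫ a) ≫ g := by
      rw [← gT_prA eX hact C e, h1, hc]
    exact (hnat _ _ _ h0 h1).symm.trans ((F_congr g F (gT_prA eX hact C e) hc h1 h2).trans (hinv _ _ e h0 h2))
  obtain ⟨χ, hχ, hu⟩ := existsUnique_descent_bc A G s hinj C (IsAlgSpace.yon_obj W) ((yon S).map F0) fun e => by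
    rw [← Functor.map_comp, hF0]
  obtain ⟨r₀, rfl⟩ := (yon S).map_surjective χ
  have hr₀ : prC (s := s) (A := A) C ≫ r₀ = F0 := (yon S).map_injective (by rw [Functor.map_comp]; exact hχ)
  refine ⟨eY.inv ≫ r₀, fun P x k h => ?_, fun r' hr' => ?_⟩
  · obtain ⟨z, hzA, hzC⟩ := exists_bc_lift eX e0 hq C x (k ≫ eY.inv) (by
      rw [h, ← heY, Category.assoc, Category.assoc, Iso.inv_hom_id_assoc])
    have hb : z ≫ prC (s := s) (A := A) C ≫ eY.hom ≫ a = k ≫ a := by
      rw [← Category.assoc, hzC, Category.assoc, Iso.inv_hom_id_assoc]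
    have h1 : (z ≫ prA eX C) ≫ f = (z ≫ prC (s := s) (A := A) C ≫ eY.hom ≫ a) ≫ g := by
      rw [Category.assoc, h0, ← Category.assoc]
    refine ((F_congr g F hzA hb h1 h).symm.trans (hnat z _ _ h0 h1)).trans ?_
    show z ≫ F0 = _
    rw [← hr₀, ← Category.assoc, hzC, Category.assoc]
  · have h3 : prA eX C ≫ f = ((prC (s := s) (A := A) C ≫ eY.hom) ≫ a) ≫ g := by rw [h0]; simp only [Category.assoc]
    have e1 : (prC (s := s) (A := A) C ≫ eY.hom) ≫ r' = F0 :=
      (hr' _ _ _ h3).symm.trans (F_congr g F rfl (Category.assoc _ _ _) _ _)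
    have e2 : (yon S).map (eY.hom ≫ r') = (yon S).map r₀ := hu _ (by
      show (yon S).map _ ≫ (yon S).map _ = _
      rw [← Functor.map_comp, show affMap s Algebra.TensorProduct.includeRight ≫ eY.hom ≫ r' = F0 from
        (Category.assoc _ _ _).symm.trans e1])
    rw [← (yon S).map_injective e2, Iso.inv_hom_id_assoc]

include eX e0 hq hact hinj hnat hinv in
/-- An invariant family is the family of pullbacks of exactly one morphism. -/
theorem existsUnique_glue :
    ∃! r : E ⟶ W, ∀ (P : Over S) (x : P ⟶ X) (b : P ⟶ E) (h : x ≫ f = b ≫ g), F x b h = b ≫ r := by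
  let 𝒰 := E.left.affineCover
  let T : 𝒰.I₀ → Over S := fun i => Over.mk (𝒰.f i ≫ E.hom)
  let a : ∀ i, T i ⟶ E := fun i => Over.homMk (𝒰.f i) rfl
  haveI : ∀ i, IsAffine (T i).left := fun i => inferInstanceAs (IsAffine (𝒰.X i))
  haveI : ∀ i, Flat (a i).left := fun i => inferInstanceAs (Flat (𝒰.f i))
  choose r hr hru using fun i => existsUnique_good eX e0 hq hact hinj g F hnat hinv (a i)
  have hc : ∀ i j, pullback.fst (𝒰.f i) (𝒰.f j) ≫ (r i).left = pullback.snd (𝒰.f i) (𝒰.f j) ≫ (r j).left := by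
    intro i j
    refine Scheme.Cover.hom_ext (pullback (𝒰.f i) (𝒰.f j)).affineCover _ _ fun l => ?_
    let V := (pullback (𝒰.f i) (𝒰.f j)).affineCover
    let T' : Over S := Over.mk (V.f l ≫ pullback.fst (𝒰.f i) (𝒰.f j) ≫ 𝒰.f i ≫ E.hom)
    let ki : T' ⟶ T i := Over.homMk (V.f l ≫ pullback.fst _ _) (by simp [T', T])
    let kj : T' ⟶ T j := Over.homMk (V.f l ≫ pullback.snd _ _) (by
      show (V.f l ≫ pullback.snd _ _) ≫ 𝒰.f j ≫ E.hom = V.f l ≫ pullback.fst _ _ ≫ 𝒰.f i ≫ E.hom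
      simp [pullback.condition_assoc])
    have hk : ki ≫ a i = kj ≫ a j := Over.OverMorphism.ext (by
      show (V.f l ≫ pullback.fst _ _) ≫ 𝒰.f i = (V.f l ≫ pullback.snd _ _) ≫ 𝒰.f j
      simp [pullback.condition])
    haveI : IsAffine T'.left := inferInstanceAs (IsAffine (V.X l))
    haveI : Flat (ki ≫ a i).left := inferInstanceAs (Flat ((V.f l ≫ pullback.fst _ _) ≫ 𝒰.f i))
    have h1 := IsGood.comp g F (hr i) ki
    have h2 := IsGood.comp g F (hr j) kj
    rw [← hk] at h2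
    have h3 := congrArg CommaMorphism.left
      ((existsUnique_good eX e0 hq hact hinj g F hnat hinv (ki ≫ a i)).unique h1 h2)
    simpa [ki, kj] using h3
  let r₀ : E.left ⟶ W.left := 𝒰.glueMorphisms (fun i => (r i).left) hc
  have hr₀ : ∀ i, 𝒰.f i ≫ r₀ = (r i).left := fun i => Scheme.Cover.ι_glueMorphisms _ _ _ i
  let rE : E ⟶ W := Over.homMk r₀ (Scheme.Cover.hom_ext 𝒰 _ _ fun i => by
    rw [← Category.assoc, hr₀]
    exact Over.w (r i))
  have hrE : ∀ i, a i ≫ rE = r i := fun i => Over.OverMorphism.ext (hr₀ i)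
  refine ⟨rE, fun P x b h => ?_, fun r' hr' => ?_⟩
  · refine Over.OverMorphism.ext (Scheme.Cover.hom_ext (𝒰.pullback₁ b.left) _ _ fun i => ?_)
    let P' : Over S := Over.mk (pullback.fst b.left (𝒰.f i) ≫ P.hom)
    let j : P' ⟶ P := Over.homMk (pullback.fst b.left (𝒰.f i)) rfl
    let k : P' ⟶ T i := Over.homMk (pullback.snd b.left (𝒰.f i)) (by
      show pullback.snd _ _ ≫ 𝒰.f i ≫ E.hom = pullback.fst _ _ ≫ P.hom
      rw [← pullback.condition_assoc, Over.w])
    have hk : j ≫ b = k ≫ a i := Over.OverMorphism.ext pullback.condition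
    have h1 : (j ≫ x) ≫ f = (j ≫ b) ≫ g := by rw [Category.assoc, h, ← Category.assoc]
    have h2 : (j ≫ x) ≫ f = (k ≫ a i) ≫ g := by rw [← hk, h1]
    have e : j ≫ F x b h = j ≫ b ≫ rE :=
      (hnat j x b h h1).symm.trans ((F_congr g F rfl hk h1 h2).trans ((hr i P' (j ≫ x) k h2).trans (by
        rw [← Category.assoc j b, hk, Category.assoc, hrE])))
    exact congrArg CommaMorphism.left e
  · refine Over.OverMorphism.ext (Scheme.Cover.hom_ext 𝒰 _ _ fun i => ?_)
    have h1 : IsGood g F (a i) (a i ≫ r') := fun P x k h => by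
      exact (hr' P x (k ≫ a i) h).trans (Category.assoc _ _ _)
    have e : a i ≫ r' = a i ≫ rE := (hru i _ h1).trans (hrE i).symm
    exact congrArg CommaMorphism.left e

end Groth.Agent.ConstActX
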