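import Groth.Agent.ConstActX.EtaleStalk
import Groth.Agent.Hensel.IntegralStrict
import Groth.Agent.Hensel.PairBasic
import Groth.Agent.Hensel.StrictPoints
import Mathlib.AlgebraicGeometry.Limits

/-!
Étale schemes over a finite algebra have sections, after an étale localisation on the base, through prescribed
geometric points over a given one.
-/

set_option autoImplicit false
set_option backward.isDefEq.respectTransparency false
set_option backward.isDefEq.respectTransparency.types false
set_option linter.style.haveILetI false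

universe u

open CategoryTheory CategoryTheory.Limits AlgebraicGeometry Opposite TensorProduct

noncomputable section

namespace Groth.Agent.ConstActX

open Groth.Agent.EtLC12.StrictStalk

variable {R : Type u} [CommRing R] {Ω : Type u} [Field Ω] [IsAlgClosed Ω] (φ : R →+* Ω)
  (A : Type u) [CommRing A] [Algebra R A] [Module.Finite R A]

/-- After an étale localisation of the base an étale scheme over a finite algebra has a section through
prescribed geometric points over the given one. -/
theorem exists_section {Z : Scheme.{u}} (p : Z ⟶ Spec (CommRingCat.of A)) [Etale p]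
    (z : ∀ x : A →+* Ω, x.comp (algebraMap R A) = φ → (Spec (CommRingCat.of Ω) ⟶ Z))
    (hz : ∀ x hx, z x hx ≫ p = Spec.map (CommRingCat.ofHom x)) :
    ∃ (N : Nbhd (geomPt φ)) (σ : Spec (CommRingCat.of (A ⊗[R] Ring φ N)) ⟶ Z),
      σ ≫ p = Spec.map (CommRingCat.ofHom (Algebra.TensorProduct.includeLeftRingHom : A →+* A ⊗[R] Ring φ N)) ∧
      ∀ (t : A ⊗[R] Ring φ N →+* Ω) (_ : t.comp Algebra.TensorProduct.includeRight.toRingHom = pt φ N)
        (h : (t.comp Algebra.TensorProduct.includeLeftRingHom).comp (algebraMap R A) = φ),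
        Spec.map (CommRingCat.ofHom t) ≫ σ = z (t.comp Algebra.TensorProduct.includeLeftRingHom) h := by
  classical
  let O := Stalk φ
  let Ah := A ⊗[R] O
  let k := IsLocalRing.ResidueField O
  haveI : IsSepClosed k := isSepClosed_residue φ
  haveI : IsLocalHom (evPt φ) := ⟨fun r hr => (evPt_isUnit φ r).2 hr.ne_zero⟩
  letI : Algebra O Ah := Algebra.TensorProduct.rightAlgebra
  haveI : Module.Finite O Ah := by
    obtain ⟨n, m, hm⟩ := Module.Finite.exists_fin (R := R) (M := A)
    refine ⟨⟨Finset.univ.image fun i => m i ⊗ₜ[R] (1 : O), eq_top_iff.2 fun w _ => ?_⟩⟩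
    obtain ⟨b, rfl⟩ := exists_sum_tmul A hm w
    refine Submodule.sum_mem _ fun i _ => ?_
    have e : m i ⊗ₜ[R] b i = b i • (m i ⊗ₜ[R] (1 : O)) := by
      rw [Algebra.smul_def]
      show _ = ((1 : A) ⊗ₜ[R] b i) * _
      rw [Algebra.TensorProduct.tmul_mul_tmul, one_mul, mul_one]
    rw [e]
    exact Submodule.smul_mem _ _ (Submodule.subset_span (by simp))
  haveI : Algebra.IsIntegral O Ah := inferInstance
  let I : Ideal Ah := (IsLocalRing.maximalIdeal O).map (algebraMap O Ah)
  haveI : HenselianRing Ah I := Hensel.henselianRing_of_isIntegral' (IsLocalRing.maximalIdeal O) Ah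
  haveI : HenselianRing Ah I.radical := (Hensel.henselianRing_radical_iff I).2 inferInstance
  have hover : ∀ P : Ideal Ah, P.IsMaximal → P.comap (algebraMap O Ah) = IsLocalRing.maximalIdeal O := fun P hP => by
    haveI := hP
    exact IsLocalRing.eq_maximalIdeal (Ideal.isMaximal_comap_of_isIntegral_of_isMaximal (R := O) P)
  have hIle : ∀ P : MaximalSpectrum Ah, I ≤ P.asIdeal := fun P =>
    Ideal.map_le_iff_le_comap.2 (hover P.asIdeal P.isMaximal).ge
  haveI : Finite (MaximalSpectrum Ah) := by
    have hf : ((IsLocalRing.maximalIdeal O).primesOver Ah).Finite := Algebra.QuasiFinite.finite_primesOver _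
    haveI := hf.to_subtype
    refine Finite.of_injective (fun P : MaximalSpectrum Ah =>
      (⟨P.asIdeal, P.isMaximal.isPrime, ⟨(hover P.asIdeal P.isMaximal).symm⟩⟩ :
        (IsLocalRing.maximalIdeal O).primesOver Ah)) fun P Q h => ?_
    exact MaximalSpectrum.ext (congrArg Subtype.val h)
  have hJ : I.radical = ⨅ P : MaximalSpectrum Ah, P.asIdeal := by
    refine le_antisymm (le_iInf fun P => P.isMaximal.isPrime.radical_le_iff.2 (hIle P)) ?_
    rw [Ideal.radical_eq_sInf]
    refine le_sInf ?_
    rintro P ⟨hIP, hP⟩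
    haveI := hP
    have hc : P.comap (algebraMap O Ah) = IsLocalRing.maximalIdeal O :=
      ((IsLocalRing.maximalIdeal.isMaximal O).eq_of_le (Ideal.IsPrime.ne_top (Ideal.IsPrime.comap _))
        (Ideal.map_le_iff_le_comap.1 hIP)).symm
    exact iInf_le_of_le (⟨P, Ideal.isMaximal_of_isIntegral_of_isMaximal_comap (R := O) P
      (by rw [hc]; exact IsLocalRing.maximalIdeal.isMaximal O)⟩ : MaximalSpectrum Ah) le_rfl
  letI algk : Algebra k Ω := (IsLocalRing.ResidueField.lift (evPt φ)).toAlgebra
  have hkΩ : ∀ o : O, algebraMap k Ω (IsLocalRing.residue O o) = evPt φ o := fun o => rfl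
  have hK : ∀ P : MaximalSpectrum Ah, ∃ (ι : (Ah ⧸ P.asIdeal) →+* Ω), (∀ o : O,
      ι (Ideal.Quotient.mk P.asIdeal (algebraMap O Ah o)) = evPt φ o) ∧
      ∀ (B : Type u) [CommRing B] [Algebra A B] [Algebra.Etale A B] (β : B →+* Ω),
        β.comp (algebraMap A B) = ι.comp ((Ideal.Quotient.mk P.asIdeal).comp Algebra.TensorProduct.includeLeftRingHom) →
        ∃ γ : B →ₐ[A] Ah ⧸ P.asIdeal, ι.comp γ.toRingHom = β := by
    intro P
    haveI := P.isMaximal
    letI : Field (Ah ⧸ P.asIdeal) := Ideal.Quotient.field P.asIdeal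
    let ρ : k →+* Ah ⧸ P.asIdeal := Ideal.Quotient.lift (IsLocalRing.maximalIdeal O)
      ((Ideal.Quotient.mk P.asIdeal).comp (algebraMap O Ah)) fun o ho =>
        Ideal.Quotient.eq_zero_iff_mem.2 (hIle P (Ideal.mem_map_of_mem _ ho))
    letI : Algebra k (Ah ⧸ P.asIdeal) := ρ.toAlgebra
    haveI : Module.Finite k (Ah ⧸ P.asIdeal) := by
      haveI : IsScalarTower O k (Ah ⧸ P.asIdeal) := IsScalarTower.of_algebraMap_eq fun o => rfl
      haveI : Module.Finite O (Ah ⧸ P.asIdeal) := inferInstanceAs (Module.Finite O (Ah ⧸ P.asIdeal))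
      exact Module.Finite.of_restrictScalars_finite O k (Ah ⧸ P.asIdeal)
    haveI : Algebra.IsAlgebraic k (Ah ⧸ P.asIdeal) := inferInstance
    haveI : IsSepClosed (Ah ⧸ P.asIdeal) := Algebra.IsAlgebraic.isSepClosed (F := k)
    let ι : (Ah ⧸ P.asIdeal) →ₐ[k] Ω := IsAlgClosed.lift
    refine ⟨ι.toRingHom, fun o => (ι.commutes (IsLocalRing.residue O o)).trans (hkΩ o), fun B _ _ _ β hβ => ?_⟩
    letI : Algebra (Ah ⧸ P.asIdeal) Ω := ι.toRingHom.toAlgebra
    letI : Algebra A Ω := (β.comp (algebraMap A B)).toAlgebra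
    haveI : IsScalarTower A (Ah ⧸ P.asIdeal) Ω := IsScalarTower.of_algebraMap_eq fun a => RingHom.congr_fun hβ a
    let β' : B →ₐ[A] Ω := { β with commutes' := fun a => rfl }
    let σ' : (Ah ⧸ P.asIdeal) ⊗[A] B →ₐ[(Ah ⧸ P.asIdeal)] Ω := Algebra.TensorProduct.lift (Algebra.ofId _ _) β' fun _ _ => .all _ _
    choose c hc using fun b : B => Hensel.mem_range_of_formallyUnramified_sepClosed σ' (1 ⊗ₜ b)
    have hc' : ∀ b, β b = ι (c b) := fun b => by
      have := hc b
      simp only [σ', Algebra.TensorProduct.lift_tmul, map_one, one_mul] at this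
      exact this
    have hinj : Function.Injective ι.toRingHom := ι.toRingHom.injective
    refine ⟨{ toFun := c
              map_one' := hinj ((hc' 1).symm.trans ((map_one β).trans (map_one ι.toRingHom).symm))
              map_mul' := fun x y => hinj ((hc' _).symm.trans (by rw [map_mul β, hc', hc']; exact (map_mul ι.toRingHom _ _).symm))
              map_zero' := hinj ((hc' 0).symm.trans ((map_zero β).trans (map_zero ι.toRingHom).symm))
              map_add' := fun x y => hinj ((hc' _).symm.trans (by rw [map_add β, hc', hc']; exact (map_add ι.toRingHom _ _).symm))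
              commutes' := fun a => hinj ((hc' _).symm.trans (RingHom.congr_fun hβ a)) }, ?_⟩
    exact RingHom.ext fun b => (hc' b).symm
  choose ι hιev hιfac using hK
  let xP : MaximalSpectrum Ah → (A →+* Ω) := fun P =>
    (ι P).comp ((Ideal.Quotient.mk P.asIdeal).comp Algebra.TensorProduct.includeLeftRingHom)
  have hxP : ∀ P, (xP P).comp (algebraMap R A) = φ := fun P => RingHom.ext fun r => by
    show ι P (Ideal.Quotient.mk P.asIdeal (algebraMap R A r ⊗ₜ[R] (1 : O))) = φ r
    have e : algebraMap R A r ⊗ₜ[R] (1 : O) = algebraMap O Ah (algebraMap R O r) := by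
      show _ = (1 : A) ⊗ₜ[R] algebraMap R O r
      rw [Algebra.algebraMap_eq_smul_one, Algebra.algebraMap_eq_smul_one, TensorProduct.smul_tmul]
    rw [e, hιev, evPt_algebraMap]
  have haff : ∀ P, ∃ (B : CommRingCat.{u}) (j : Spec B ⟶ Z) (β : B ⟶ CommRingCat.of Ω),
      IsOpenImmersion j ∧ Spec.map β ≫ j = z (xP P) (hxP P) := fun P => by
    obtain ⟨B, j, hj, hmem, -⟩ := Scheme.exists_affine_mem_range_and_range_subset
      (x := (z (xP P) (hxP P)).base (default : Spec (CommRingCat.of Ω))) (U := (⊤ : Z.Opens)) (by simp)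
    refine ⟨B, j, Spec.preimage (IsOpenImmersion.lift j (z (xP P) (hxP P)) (by
      rintro _ ⟨a, rfl⟩
      rw [Subsingleton.elim a default]
      exact hmem)), hj, ?_⟩
    rw [Spec.map_preimage, IsOpenImmersion.lift_fac]
  choose B j β hj hβ using haff
  let B' : MaximalSpectrum Ah → Type u := fun P => B P
  let pA : ∀ P, A →+* B' P := fun P => (Spec.preimage (j P ≫ p)).hom
  letI algB : ∀ P, Algebra A (B' P) := fun P => (pA P).toAlgebra
  have hmapA : ∀ P, Spec.map (CommRingCat.ofHom (pA P)) = j P ≫ p := fun P => Spec.map_preimage _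
  haveI hetB : ∀ P, Algebra.Etale A (B' P) := fun P => by
    haveI := hj P
    have h : Etale (Spec.map (CommRingCat.ofHom (algebraMap A (B' P)))) := by
      show Etale (Spec.map (CommRingCat.ofHom (pA P)))
      rw [hmapA P]; infer_instance
    exact RingHom.etale_algebraMap.mp ((HasRingHomProperty.Spec_iff (P := @Etale)).mp h)
  have hβA : ∀ P, ((β P).hom : B' P →+* Ω).comp (algebraMap A (B' P)) = xP P := fun P => by
    refine congrArg CommRingCat.Hom.hom (Spec.map_injective ?_ :
      CommRingCat.ofHom (pA P) ≫ β P = CommRingCat.ofHom (xP P))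
    rw [Spec.map_comp, hmapA, ← Category.assoc, hβ, hz]
  choose γ hγ using fun P => hιfac P (B' P) (β P).hom (hβA P)
  let U := ∀ P, B' P
  let sig := sigmaSpec.{u} (fun P => B P)
  let toZ : Spec (CommRingCat.of U) ⟶ Z := inv sig ≫ Sigma.desc j
  have htoZ : ∀ P, Spec.map (CommRingCat.ofHom (Pi.evalRingHom B' P)) ≫ toZ = j P := fun P => by
    have h := ι_sigmaSpec (fun P => B P) P
    show Spec.map (CommRingCat.ofHom (Pi.evalRingHom (fun P => (B P : Type u)) P)) ≫ _ = _
    rw [← h, Category.assoc]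
    show Sigma.ι (fun P => Spec (B P)) P ≫ sig ≫ inv sig ≫ Sigma.desc j = j P
    rw [IsIso.hom_inv_id_assoc, colimit.ι_desc]
    rfl
  have htoA : toZ ≫ p = Spec.map (CommRingCat.ofHom (algebraMap A U)) := by
    rw [← cancel_epi sig]
    refine Sigma.hom_ext _ _ fun P => ?_
    show Sigma.ι (fun P => Spec (B P)) P ≫ sig ≫ (inv sig ≫ Sigma.desc j) ≫ p =
      Sigma.ι (fun P => Spec (B P)) P ≫ sig ≫ _
    rw [Category.assoc, IsIso.hom_inv_id_assoc, colimit.ι_desc_assoc]
    refine Eq.trans (hmapA P).symm ?_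
    rw [← Category.assoc, show Sigma.ι (fun P => Spec (B P)) P ≫ sig = _ from ι_sigmaSpec (fun P => B P) P, ← Spec.map_comp]
    rfl
  haveI : Algebra.Etale A U := by
    haveI : ∀ P, Etale (j P) := fun P => haveI := hj P; inferInstance
    haveI : Etale (Sigma.desc j) := IsZariskiLocalAtSource.sigmaDesc (fun P => inferInstance)
    have h : Etale (Spec.map (CommRingCat.ofHom (algebraMap A U))) := by rw [← htoA]; infer_instance
    exact RingHom.etale_algebraMap.mp ((HasRingHomProperty.Spec_iff (P := @Etale)).mp h)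
  have hcop : Pairwise fun P Q : MaximalSpectrum Ah => IsCoprime P.asIdeal Q.asIdeal := fun P Q h =>
    Ideal.isCoprime_iff_sup_eq.2 (P.isMaximal.coprime_of_ne Q.isMaximal fun e => h (MaximalSpectrum.ext e))
  let eJ : (Ah ⧸ I.radical) ≃+* ∀ P : MaximalSpectrum Ah, Ah ⧸ P.asIdeal :=
    (Ideal.quotEquivOfEq hJ).trans (Ideal.quotientInfRingEquivPiQuotient _ hcop)
  have heJ : ∀ (w : Ah) P, eJ (Ideal.Quotient.mk _ w) P = Ideal.Quotient.mk P.asIdeal w := fun w P => rfl
  let σJ : U →ₐ[A] Ah ⧸ I.radical :=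
    { eJ.symm.toRingHom.comp (RingHom.pi fun P => (γ P).toRingHom.comp (Pi.evalRingHom B' P)) with
      commutes' := fun a => eJ.injective (funext fun P => by
        show eJ (eJ.symm _) P = eJ (Ideal.Quotient.mk _ (algebraMap A Ah a)) P
        rw [RingEquiv.apply_symm_apply, heJ]
        exact (γ P).commutes a) }
  obtain ⟨τ, hτ, -⟩ := Hensel.existsUnique_etale_lift_of_algebra I.radical σJ
  obtain ⟨N, τ', hτ'⟩ := exists_descend φ A U τ
  refine ⟨N, Spec.map (CommRingCat.ofHom τ'.toRingHom) ≫ toZ, ?_, fun t ht h => ?_⟩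
  · rw [Category.assoc, htoA, ← Spec.map_comp, ← CommRingCat.ofHom_comp]
    congr 2
    exact RingHom.ext fun a => τ'.commutes a
  · letI : Algebra R Ω := φ.toAlgebra
    let tA : A →ₐ[R] Ω :=
      { t.comp Algebra.TensorProduct.includeLeftRingHom with commutes' := fun r => RingHom.congr_fun h r }
    let eO : O →ₐ[R] Ω := { evPt φ with commutes' := fun r => evPt_algebraMap φ r }
    let T : Ah →ₐ[R] Ω := Algebra.TensorProduct.lift tA eO fun _ _ => .all _ _
    have hTt : ∀ y, T (germT φ A N y) = t y := fun y => by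
      induction y using TensorProduct.induction_on with
      | zero => simp
      | add a b ha hb => rw [map_add, map_add, ha, hb, map_add]
      | tmul a b =>
        show T (a ⊗ₜ[R] germ φ N b) = t (a ⊗ₜ[R] b)
        rw [Algebra.TensorProduct.lift_tmul]
        show t (a ⊗ₜ[R] 1) * evPt φ (germ φ N b) = _
        rw [evPt_germ, ← ht]
        show t (a ⊗ₜ[R] 1) * t ((1 : A) ⊗ₜ[R] b) = _
        rw [← map_mul, Algebra.TensorProduct.tmul_mul_tmul, mul_one, one_mul]
    have hTo : ∀ o : O, T (algebraMap O Ah o) = evPt φ o := fun o => by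
      show T ((1 : A) ⊗ₜ[R] o) = _
      rw [Algebra.TensorProduct.lift_tmul, map_one, one_mul]
      rfl
    let P₀ : Ideal Ah := RingHom.ker T.toRingHom
    haveI : P₀.IsPrime := RingHom.ker_isPrime _
    have hPm : P₀.IsMaximal := Ideal.isMaximal_of_isIntegral_of_isMaximal_comap (R := O) P₀ (by
      have : P₀.comap (algebraMap O Ah) = IsLocalRing.maximalIdeal O := by
        ext o
        rw [Ideal.mem_comap, RingHom.mem_ker, IsLocalRing.mem_maximalIdeal, mem_nonunits_iff, evPt_isUnit,
          not_not, AlgHom.toRingHom_eq_coe, RingHom.coe_coe, hTo]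
      rw [this]; exact IsLocalRing.maximalIdeal.isMaximal O)
    let P : MaximalSpectrum Ah := ⟨P₀, hPm⟩
    haveI := hPm
    have hTι : ∀ w : Ah, T w = ι P (Ideal.Quotient.mk P₀ w) := by
      letI : Field (Ah ⧸ P₀) := Ideal.Quotient.field P₀
      let ρ : k →+* Ah ⧸ P₀ := Ideal.Quotient.lift (IsLocalRing.maximalIdeal O)
        ((Ideal.Quotient.mk P₀).comp (algebraMap O Ah)) fun o ho =>
          Ideal.Quotient.eq_zero_iff_mem.2 (hIle P (Ideal.mem_map_of_mem _ ho))
      letI : Algebra k (Ah ⧸ P₀) := ρ.toAlgebra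
      haveI : IsScalarTower O k (Ah ⧸ P₀) := IsScalarTower.of_algebraMap_eq fun o => rfl
      haveI : Module.Finite k (Ah ⧸ P₀) := Module.Finite.of_restrictScalars_finite O k _
      haveI : IsPurelyInseparable k (Ah ⧸ P₀) := inferInstance
      have hh := IsPurelyInseparable.injective_comp_algebraMap k (Ah ⧸ P₀) Ω
        (a₁ := Ideal.Quotient.lift P₀ T.toRingHom fun w hw => hw) (a₂ := ι P) (RingHom.ext fun c => by
          obtain ⟨o, rfl⟩ := IsLocalRing.residue_surjective c
          exact (hTo o).trans (hιev P o).symm)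
      exact fun w => RingHom.congr_fun hh (Ideal.Quotient.mk P₀ w)
    have hx : xP P = t.comp Algebra.TensorProduct.includeLeftRingHom := RingHom.ext fun a => by
      show ι P (Ideal.Quotient.mk P₀ (a ⊗ₜ[R] (1 : O))) = t (a ⊗ₜ[R] 1)
      rw [← hTι, ← hTt]
      simp [germT]
    have hzP : z (xP P) (hxP P) = z (t.comp Algebra.TensorProduct.includeLeftRingHom) h := by
      congr 1
    have key : t.comp τ'.toRingHom = ((β P).hom : B' P →+* Ω).comp (Pi.evalRingHom B' P) := RingHom.ext fun w => by
      show t (τ' w) = (β P).hom (w P)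
      rw [← hTt, ← AlgHom.comp_apply, hτ', hTι]
      have h1 : Ideal.Quotient.mk I.radical (τ w) = σJ w := AlgHom.congr_fun hτ w
      rw [← heJ (τ w) P, h1]
      show ι P (eJ (eJ.symm _) P) = _
      rw [RingEquiv.apply_symm_apply]
      exact RingHom.congr_fun (hγ P) (w P)
    rw [← Category.assoc, ← Spec.map_comp, ← CommRingCat.ofHom_comp, key, CommRingCat.ofHom_comp, Spec.map_comp,
      Category.assoc, htoZ, ← hzP, ← hβ]
    rfl

end Groth.Agent.ConstActX
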