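import Mathlib.RingTheory.Invariant.Basic
import Mathlib.FieldTheory.IsAlgClosed.Basic
import Mathlib.RingTheory.LocalRing.ResidueField.Ideal
import Mathlib.RingTheory.Ideal.GoingUp
import Mathlib.Algebra.Polynomial.GroupRingAction

/-!
Points with values in a domain of a ring with a finite group action, over the points of its invariants.
-/

set_option autoImplicit false
set_option linter.style.haveILetI false
universe u v w

open Polynomial

namespace Groth.Agent.ConstActX

variable {A : Type u} {B : Type v} [CommRing A] [CommRing B] [Algebra A B]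
  {G : Type w} [Group G] [Finite G] [MulSemiringAction G B] [Algebra.IsInvariant A B G]

/-- Two points of a ring with values in a domain which agree on the invariants are conjugate. -/
theorem exists_smul_eq {Ω : Type*} [CommRing Ω] [IsDomain Ω] (x x' : B →+* Ω)
    (h : x.comp (algebraMap A B) = x'.comp (algebraMap A B)) : ∃ g : G, ∀ b : B, x' b = x (g • b) := by
  classical
  haveI := Fintype.ofFinite G
  by_contra hn
  push Not at hn
  choose b hb using hn
  let e := Fintype.equivFin G
  let p : B[X] := ∑ i : Fin (Fintype.card G), C (b (e.symm i)) * X ^ (i : ℕ)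
  let F : (B[X])[X] := ∏ g : G, (X - C (g • p))
  have hF : ∀ g : G, g • F = F := fun g => by
    rw [Finset.smul_prod']
    refine Fintype.prod_equiv (Equiv.mulLeft g) _ _ fun h => ?_
    rw [smul_sub, smul_X, smul_C, Equiv.coe_mulLeft, mul_smul]
  have hco : ∀ n m, x (((F.coeff n)).coeff m) = x' (((F.coeff n)).coeff m) := fun n m => by
    obtain ⟨a, ha⟩ := Algebra.IsInvariant.isInvariant (A := A) (G := G) ((F.coeff n).coeff m) fun g => by
      conv_rhs => rw [← hF g]
      simp [coeff_smul]
    rw [← ha]
    exact RingHom.congr_fun h a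
  have hmap : F.map (mapRingHom x) = F.map (mapRingHom x') := by
    refine Polynomial.ext fun n => Polynomial.ext fun m => ?_
    simp [coeff_map, hco n m]
  have h0 : (F.map (mapRingHom x')).eval (p.map x') = 0 := by
    rw [Polynomial.map_prod, eval_prod, Finset.prod_eq_zero_iff]
    exact ⟨1, Finset.mem_univ _, by simp⟩
  rw [← hmap, Polynomial.map_prod, eval_prod, Finset.prod_eq_zero_iff] at h0
  obtain ⟨g, -, hg⟩ := h0
  simp only [Polynomial.map_sub, Polynomial.map_X, Polynomial.map_C, eval_sub, eval_X, eval_C, sub_eq_zero] at hg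
  have hp : p.coeff (e g : ℕ) = b g := by
    simp only [p, finsetSum_coeff, coeff_C_mul_X_pow]
    rw [Finset.sum_eq_single (e g)]
    · simp
    · exact fun i _ hi => if_neg fun h => hi (Fin.ext h.symm)
    · exact fun hh => absurd (Finset.mem_univ _) hh
  have h1 := congrArg (fun q : Ω[X] => q.coeff (e g : ℕ)) hg
  simp only [coeff_map, coe_mapRingHom, coeff_smul, hp] at h1
  exact hb g h1

/-- Every point of the invariants with values in an algebraically closed field extends. -/
theorem exists_extend [Algebra.IsIntegral A B] (hinj : Function.Injective (algebraMap A B)) {Ω : Type*} [Field Ω] [IsAlgClosed Ω]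
    (y : A →+* Ω) : ∃ x : B →+* Ω, x.comp (algebraMap A B) = y := by
  let q : Ideal A := RingHom.ker y
  haveI : q.IsPrime := RingHom.ker_isPrime y
  obtain ⟨Q, -, hQ, hQq⟩ := Ideal.exists_ideal_over_prime_of_isIntegral (S := B) q ⊥
    (by rw [Ideal.comap_bot_of_injective _ hinj]; exact bot_le)
  haveI := hQ
  haveI : Q.LiesOver q := ⟨hQq.symm⟩
  let _ : Algebra (A ⧸ q) Ω := (RingHom.kerLift y).toAlgebra
  haveI : Module.IsTorsionFree (A ⧸ q) Ω := Module.isTorsionFree_iff_algebraMap_injective.2 (RingHom.kerLift_injective y)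
  haveI : Module.IsTorsionFree (A ⧸ q) (B ⧸ Q) :=
    Module.isTorsionFree_iff_algebraMap_injective.2 (RingHom.injective_iff_ker_eq_bot _ |>.2 (by
      rw [RingHom.ker_eq_bot_iff_eq_zero]
      intro z hz
      obtain ⟨a, rfl⟩ := Ideal.Quotient.mk_surjective z
      rw [Ideal.Quotient.eq_zero_iff_mem]
      rw [Ideal.Quotient.algebraMap_mk_of_liesOver, Ideal.Quotient.eq_zero_iff_mem] at hz
      exact hQq.le hz))
  haveI : Algebra.IsIntegral (A ⧸ q) (B ⧸ Q) := inferInstance
  haveI : Algebra.IsAlgebraic (A ⧸ q) (B ⧸ Q) := inferInstance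
  let j : B ⧸ Q →ₐ[A ⧸ q] Ω := IsAlgClosed.lift
  refine ⟨j.toRingHom.comp (Ideal.Quotient.mk Q), RingHom.ext fun a => ?_⟩
  show j (Ideal.Quotient.mk Q (algebraMap A B a)) = y a
  rw [← Ideal.Quotient.algebraMap_mk_of_liesOver Q q a, AlgHom.commutes]
  exact RingHom.kerLift_mk y a

end Groth.Agent.ConstActX
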