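import Groth.Agent.ConstActX.Unique
import Groth.Agent.ConstActX.LocalSection
import Groth.Agent.ConstActX.PointOrbit
import Groth.Agent.InvEtale.Tensor
import Groth.Agent.GITQuot.Successive
import Mathlib.FieldTheory.IsAlgClosed.AlgebraicClosure

/-!
An invariant map from an affine scheme with a finite group action to an algebraic space descends, étale locally
on the spectrum of the invariants.
-/

set_option autoImplicit false
set_option backward.isDefEq.respectTransparency false
set_option backward.isDefEq.respectTransparency.types false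
set_option linter.style.haveILetI false

universe u

open CategoryTheory CategoryTheory.Limits AlgebraicGeometry Opposite TensorProduct AlgSp

noncomputable section

namespace Groth.Agent.ConstActX

variable {S : Scheme.{u}} {A0 : Type u} [CommRing A0] (A : Type u) [CommRing A] [Algebra A0 A] [Module.Finite A0 A]

theorem finite_includeRight (B : Type u) [CommRing B] [Algebra A0 B] :
    (Algebra.TensorProduct.includeRight (R := A0) (A := A) (B := B)).toRingHom.Finite := by
  letI : Algebra B (A ⊗[A0] B) := Algebra.TensorProduct.rightAlgebra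
  have : Module.Finite B (B ⊗[A0] A) := inferInstance
  have h' : Module.Finite B (A ⊗[A0] B) := by
    refine Module.Finite.equiv (R := B) (M := B ⊗[A0] A) ?_
    exact
      { Algebra.TensorProduct.comm A0 B A with
        map_smul' := fun c x => by
          show Algebra.TensorProduct.comm A0 B A (c • x) = c • Algebra.TensorProduct.comm A0 B A x
          rw [Algebra.smul_def, map_mul, Algebra.smul_def]
          rfl }
  exact h'

/-- Two maps to a scheme which agree on a finite injective extension are equal. -/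
theorem eq_of_comp_finite_injective {C D : Type u} [CommRing C] [CommRing D] {q : C →+* D} (hq : q.Finite)
    (hinj : Function.Injective q) {T : Scheme.{u}} (a b : Spec (CommRingCat.of C) ⟶ T)
    (h : Spec.map (CommRingCat.ofHom q) ≫ a = Spec.map (CommRingCat.ofHom q) ≫ b) : a = b := by
  let v := pullback.lift a b (terminal.hom_ext (a ≫ terminal.from T) (b ≫ terminal.from T))
  let d := pullback.diagonal (terminal.from T)
  let j : pullback d v ⟶ Spec (CommRingCat.of C) := pullback.snd d v
  haveI : IsIso j := isIso_of_mono_of_finite_injective hq hinj j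
    (pullback.lift (Spec.map (CommRingCat.ofHom q) ≫ a) (Spec.map (CommRingCat.ofHom q)) (by
      refine pullback.hom_ext ?_ ?_
      · simp [d, v]
      · simp [d, v, h])) (pullback.lift_snd _ _ _)
  have e : (inv j ≫ pullback.fst d v) ≫ d = v := by
    rw [Category.assoc, pullback.condition]; exact IsIso.inv_hom_id_assoc j v
  have e1 := e =≫ pullback.fst _ _
  have e2 := e =≫ pullback.snd _ _
  simp [d, v] at e1 e2
  exact (cancel_epi j).1 (e1.symm.trans e2)

/-- A point of an integral extension over a given point of the ring with a given kernel. -/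
theorem exists_point_over {B C : Type u} [CommRing B] [CommRing C] [Algebra B C] [Algebra.IsIntegral B C]
    {Ω : Type u} [Field Ω] [IsAlgClosed Ω] (P : Ideal C) [P.IsPrime] (t₀ : B →+* Ω)
    (h : P.comap (algebraMap B C) = RingHom.ker t₀) :
    ∃ t : C →+* Ω, t.comp (algebraMap B C) = t₀ ∧ RingHom.ker t = P := by
  let q : Ideal B := RingHom.ker t₀
  haveI : q.IsPrime := RingHom.ker_isPrime t₀
  haveI : P.LiesOver q := ⟨h.symm⟩
  let _ : Algebra (B ⧸ q) Ω := (RingHom.kerLift t₀).toAlgebra
  haveI : Module.IsTorsionFree (B ⧸ q) Ω :=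
    Module.isTorsionFree_iff_algebraMap_injective.2 (RingHom.kerLift_injective t₀)
  haveI : Module.IsTorsionFree (B ⧸ q) (C ⧸ P) :=
    Module.isTorsionFree_iff_algebraMap_injective.2 ((RingHom.injective_iff_ker_eq_bot _).2 (by
      rw [RingHom.ker_eq_bot_iff_eq_zero]
      intro z hz
      obtain ⟨a, rfl⟩ := Ideal.Quotient.mk_surjective z
      rw [Ideal.Quotient.eq_zero_iff_mem]
      rw [Ideal.Quotient.algebraMap_mk_of_liesOver, Ideal.Quotient.eq_zero_iff_mem] at hz
      exact h.le hz))
  haveI : Algebra.IsIntegral (B ⧸ q) (C ⧸ P) := inferInstance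
  haveI : Algebra.IsAlgebraic (B ⧸ q) (C ⧸ P) := inferInstance
  let j : C ⧸ P →ₐ[B ⧸ q] Ω := IsAlgClosed.lift
  haveI : (RingHom.ker j.toRingHom).IsPrime := RingHom.ker_isPrime _
  have hj : RingHom.ker j.toRingHom = ⊥ := by
    refine Ideal.eq_bot_of_comap_eq_bot (R := B ⧸ q) ?_
    rw [RingHom.comap_ker, ← RingHom.injective_iff_ker_eq_bot]
    intro a b hab
    refine RingHom.kerLift_injective t₀ ?_
    exact ((j.commutes a).symm.trans hab).trans (j.commutes b)
  refine ⟨j.toRingHom.comp (Ideal.Quotient.mk P), RingHom.ext fun a => ?_, ?_⟩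
  · show j (Ideal.Quotient.mk P (algebraMap B C a)) = t₀ a
    rw [← Ideal.Quotient.algebraMap_mk_of_liesOver P q a, AlgHom.commutes]
    exact RingHom.kerLift_mk t₀ a
  · rw [← RingHom.comap_ker, hj]
    exact Ideal.mk_ker

theorem default_map_eq {C Ω : Type u} [CommRing C] [Field Ω] (t : C →+* Ω)
    (P : PrimeSpectrum C) (h : RingHom.ker t = P.asIdeal) :
    (Spec.map (CommRingCat.ofHom t)).base (default : Spec (CommRingCat.of Ω)) = P := by
  refine PrimeSpectrum.ext ?_
  rw [← h]
  show Ideal.comap t _ = _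
  rw [show (default : Spec (CommRingCat.of Ω)).asIdeal = ⊥ from Ideal.eq_bot_of_prime _]
  rfl

variable (G : Type u) [Group G] [Finite G] [MulSemiringAction G A] [SMulCommClass G A0 A]

/-- The action on a base change. -/
abbrev gT (B : Type u) [CommRing B] [Algebra A0 B] (g : G) : A ⊗[A0] B →ₐ[A0] A ⊗[A0] B :=
  Algebra.TensorProduct.map (MulSemiringAction.toAlgHom A0 A g) (AlgHom.id A0 B)

/-- The invariants of a flat base change. -/
theorem exists_includeRight_of_invariant [Algebra.IsInvariant A0 A G] (B : Type u) [CommRing B] [Algebra A0 B]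
    [Module.Flat A0 B] (z : A ⊗[A0] B) (hz : ∀ g, gT A G B g z = z) :
    ∃ b : B, Algebra.TensorProduct.includeRight (R := A0) (A := A) b = z := by
  letI := InvEtale.tensorAction A0 B A G
  let e := Algebra.TensorProduct.comm A0 A B
  have he : ∀ (g : G) (y : A ⊗[A0] B), g • e y = e (gT A G B g y) := fun g y => by
    induction y using TensorProduct.induction_on with
    | zero => simp
    | tmul a b => simp [e, InvEtale.tensorAction_tmul]
    | add a b ha hb => rw [map_add, smul_add, ha, hb, map_add, map_add]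
  obtain ⟨w, hw⟩ := InvEtale.exists_of_invariant A0 B A G A0 (e z) fun g => by rw [he, hz]
  refine ⟨Algebra.TensorProduct.rid A0 A0 B w, e.injective ?_⟩
  rw [← hw]
  clear hw
  induction w using TensorProduct.induction_on with
  | zero => simp
  | tmul b r =>
    simp only [e, Algebra.TensorProduct.rid_tmul, Algebra.TensorProduct.includeRight_apply,
      Algebra.TensorProduct.comm_tmul, Algebra.TensorProduct.map_tmul, AlgHom.id_apply,
      IsScalarTower.coe_toAlgHom', Algebra.algebraMap_eq_smul_one, TensorProduct.smul_tmul]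
  | add a b ha hb => rw [map_add, map_add, map_add, map_add, ha, hb]

theorem gT_includeRight (B : Type u) [CommRing B] [Algebra A0 B] (g : G) :
    (gT A G B g).comp (Algebra.TensorProduct.includeRight (R := A0) (A := A) (B := B)) =
      Algebra.TensorProduct.includeRight :=
  AlgHom.ext fun b => by simp

theorem gT_includeLeft (B : Type u) [CommRing B] [Algebra A0 B] (g : G) :
    (gT A G B g).comp (Algebra.TensorProduct.includeLeft (S := A0)) =
      (Algebra.TensorProduct.includeLeft (S := A0)).comp (MulSemiringAction.toAlgHom A0 A g) :=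
  AlgHom.ext fun a => by simp

theorem gT_map {B B' : Type u} [CommRing B] [Algebra A0 B] [CommRing B'] [Algebra A0 B'] (h : B →ₐ[A0] B') (g : G) :
    (gT A G B' g).comp (Algebra.TensorProduct.map (AlgHom.id A0 A) h) =
      (Algebra.TensorProduct.map (AlgHom.id A0 A) h).comp (gT A G B g) :=
  AlgHom.ext fun z => by
    induction z using TensorProduct.induction_on with
    | zero => simp
    | tmul a b => simp
    | add a b ha hb => rw [map_add, map_add, ha, hb]

variable [Algebra.IsInvariant A0 A G] (s : Spec (CommRingCat.of A0) ⟶ S)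

/-- Around every prime of the invariants an invariant map descends after an étale extension. -/
theorem exists_local (hinj : Function.Injective (algebraMap A0 A)) {N : Sp S} {U : Over S} (p : (yon S).obj U ⟶ N)
    (hpe : RepWith @Etale p) (hps : RepWith @Surjective p) (ψ : (yon S).obj (aff s A) ⟶ N)
    (hψ : ∀ g : G, (yon S).map (affMap s (MulSemiringAction.toAlgHom A0 A g)) ≫ ψ = ψ) (q : PrimeSpectrum A0) :
    ∃ (B : Type u) (_ : CommRing B) (_ : Algebra A0 B), Algebra.Etale A0 B ∧
      (∃ P : PrimeSpectrum B, P.comap (algebraMap A0 B) = q) ∧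
      ∃ w : aff s B ⟶ U,
        (yon S).map (affMap s (Algebra.TensorProduct.includeRight (R := A0) (A := A) (B := B))) ≫ (yon S).map w ≫ p =
          (yon S).map (affMap s (Algebra.TensorProduct.includeLeft (R := A0) (S := A0) (A := A) (B := B))) ≫ ψ := by
  classical
  let hp := hpe.1
  let Ω := AlgebraicClosure q.asIdeal.ResidueField
  let φ : A0 →+* Ω := algebraMap A0 Ω
  have hφ : RingHom.ker φ = q.asIdeal := by
    show RingHom.ker (algebraMap A0 Ω) = _
    rw [IsScalarTower.algebraMap_eq A0 q.asIdeal.ResidueField Ω,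
      RingHom.ker_comp_of_injective _ (algebraMap q.asIdeal.ResidueField Ω).injective]
    exact Ideal.ker_algebraMap_residueField _
  haveI : Algebra.IsIntegral A0 A := inferInstance
  obtain ⟨x₁r, hx₁⟩ := exists_extend (A := A0) (B := A) hinj φ
  let x₁ : A →ₐ[A0] Ω := { x₁r with commutes' := fun r => RingHom.congr_fun hx₁ r }
  have hconj : ∀ x : A →ₐ[A0] Ω, (yon S).map (affMap s x) ≫ ψ = (yon S).map (affMap s x₁) ≫ ψ := fun x => by
    obtain ⟨g, hg⟩ := exists_smul_eq (A := A0) (G := G) x₁.toRingHom x.toRingHom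
      (x₁.comp_algebraMap.trans x.comp_algebraMap.symm)
    rw [show x = x₁.comp (MulSemiringAction.toAlgHom A0 A g) from AlgHom.ext hg, affMap_comp, Functor.map_comp,
      Category.assoc, hψ]
  obtain ⟨wb, hwb⟩ : ∃ wb : aff s Ω ⟶ U, (yon S).map wb ≫ p = (yon S).map (affMap s x₁) ≫ ψ := by
    let g₁ := (yon S).map (affMap s x₁) ≫ ψ
    haveI : Etale (hp.snd g₁).left := etale_snd p hp hpe _
    haveI : Surjective (hp.snd g₁).left := hps.2 _ _ _ (hp.isPullback _)
    obtain ⟨x, hx⟩ := GITQuot.Successive.exists_point (Iso.refl _) (hp.snd g₁) (𝟙 (aff s Ω))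
      fun t => (hp.snd g₁).left.surjective _
    refine ⟨x ≫ hp.fst' g₁, ?_⟩
    rw [Functor.map_comp, Category.assoc, (hp.isPullback' g₁).w, ← Functor.map_comp_assoc, hx]
    simp [g₁]
  let Z := hp.pullback ψ
  haveI : Etale (hp.snd ψ).left := etale_snd p hp hpe _
  let alg : ∀ x : A →+* Ω, x.comp (algebraMap A0 A) = φ → (A →ₐ[A0] Ω) := fun x hx =>
    { x with commutes' := fun r => RingHom.congr_fun hx r }
  let zo : ∀ (x : A →+* Ω) (hx : x.comp (algebraMap A0 A) = φ), aff s Ω ⟶ Z := fun x hx =>
    hp.lift' wb (affMap s (alg x hx)) (hwb.trans (hconj _).symm)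
  obtain ⟨N₁, σ, hσ, hσt⟩ := exists_section φ A (hp.snd ψ).left (fun x hx => (zo x hx).left) fun x hx =>
    congrArg CommaMorphism.left (hp.lift'_snd wb (affMap s (alg x hx)) (hwb.trans (hconj _).symm))
  let B₁ := Ring φ N₁
  haveI : Algebra.Etale A0 B₁ := etale_ring φ N₁
  let rB₁ : aff s (A ⊗[A0] B₁) ⟶ aff s B₁ := affMap s (Algebra.TensorProduct.includeRight (R := A0) (A := A))
  let lB₁ : aff s (A ⊗[A0] B₁) ⟶ aff s A := affMap s (Algebra.TensorProduct.includeLeft (R := A0) (S := A0))
  let σ' : aff s (A ⊗[A0] B₁) ⟶ Z := Over.homMk σ (by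
    rw [← Over.w (hp.snd ψ), ← Category.assoc, hσ]
    exact Over.w lB₁)
  have hσ' : σ' ≫ hp.snd ψ = lB₁ := Over.OverMorphism.ext hσ
  let w₁ : aff s (A ⊗[A0] B₁) ⟶ U := σ' ≫ hp.fst' ψ
  have hw₁ : (yon S).map w₁ ≫ p = (yon S).map lB₁ ≫ ψ := by
    rw [Functor.map_comp, Category.assoc, (hp.isPullback' ψ).w, ← Functor.map_comp_assoc, hσ']
  let t₀ : B₁ →ₐ[A0] Ω := { pt φ N₁ with commutes' := fun r => RingHom.congr_fun (pt_algebraMap φ N₁) r }
  have hwt : ∀ t : A ⊗[A0] B₁ →ₐ[A0] Ω, t.comp Algebra.TensorProduct.includeRight = t₀ → affMap s t ≫ w₁ = wb := by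
    intro t ht
    have hh : (t.toRingHom.comp Algebra.TensorProduct.includeLeftRingHom).comp (algebraMap A0 A) = φ :=
      (t.comp (Algebra.TensorProduct.includeLeft (S := A0))).comp_algebraMap
    have e : affMap s t ≫ σ' = zo _ hh :=
      Over.OverMorphism.ext (hσt t.toRingHom (congrArg AlgHom.toRingHom ht) hh)
    rw [← Category.assoc, e]
    exact hp.lift'_fst _ _ _
  choose r hr₁ hr₂ using fun g : G => exists_rel p hp (affMap s (gT A G B₁ g) ≫ w₁) w₁ (by
    rw [Functor.map_comp, Category.assoc, hw₁, ← Functor.map_comp_assoc, ← affMap_comp, gT_includeLeft, affMap_comp,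
      Functor.map_comp, Category.assoc, hψ])
  obtain ⟨δ, hδ₁, hδ₂⟩ := exists_rel p hp (𝟙 U) (𝟙 U) rfl
  haveI : IsOpenImmersion δ.left := by
    haveI : Etale (hp.snd p).left := etale_snd p hp hpe p
    haveI : Etale (δ.left ≫ (hp.snd p).left) := by rw [← Over.comp_left, hδ₂]; infer_instance
    haveI : Etale δ.left := Etale.of_comp δ.left (hp.snd p).left
    haveI : Mono (δ.left ≫ (hp.snd p).left) := by rw [← Over.comp_left, hδ₂]; infer_instance
    haveI : Mono δ.left := mono_of_mono δ.left (hp.snd p).left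
    exact IsOpenImmersion.of_flat_of_mono δ.left
  let pt₀ : Spec (CommRingCat.of Ω) := default
  obtain ⟨Q, jW, hjW, hmemW, -⟩ :=
    Scheme.exists_affine_mem_range_and_range_subset (x := wb.left pt₀) (U := (⊤ : U.left.Opens)) trivial
  haveI := hjW
  let O : Set (PrimeSpectrum (A ⊗[A0] B₁)) :=
    w₁.left ⁻¹' Set.range jW ∩ ⋂ g : G, (r g).left ⁻¹' Set.range δ.left
  have hO : IsOpen O := (jW.isOpenEmbedding.isOpen_range.preimage w₁.left.continuous).inter
    (isOpen_iInter_of_finite fun g => δ.left.isOpenEmbedding.isOpen_range.preimage (r g).left.continuous)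
  have hmem : ∀ P : PrimeSpectrum (A ⊗[A0] B₁),
      P.asIdeal.comap (Algebra.TensorProduct.includeRight (R := A0) (A := A)).toRingHom = RingHom.ker t₀.toRingHom →
      P ∈ O := by
    intro P hP
    letI : Algebra B₁ (A ⊗[A0] B₁) := Algebra.TensorProduct.rightAlgebra
    haveI : Algebra.IsIntegral B₁ (A ⊗[A0] B₁) := ⟨fun z => (finite_includeRight A B₁).to_isIntegral z⟩
    obtain ⟨tr, htr, hker⟩ := exists_point_over P.asIdeal t₀.toRingHom hP
    have htc : ∀ a : A0, tr (algebraMap A0 (A ⊗[A0] B₁) a) = algebraMap A0 Ω a := fun a => by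
      have h2 := RingHom.congr_fun htr (algebraMap A0 B₁ a)
      refine Eq.trans ?_ (t₀.commutes a)
      refine Eq.trans (congrArg tr ?_) h2
      exact ((Algebra.TensorProduct.includeRight (R := A0) (A := A) (B := B₁)).commutes a).symm
    let t : A ⊗[A0] B₁ →ₐ[A0] Ω := { tr with commutes' := htc }
    have ht : t.comp Algebra.TensorProduct.includeRight = t₀ := AlgHom.coe_ringHom_injective htr
    have hpt : (affMap s t).left pt₀ = P := default_map_eq tr P hker
    refine ⟨?_, Set.mem_iInter.2 fun g => ?_⟩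
    · show w₁.left P ∈ Set.range jW
      rw [← hpt, ← Scheme.Hom.comp_apply, ← Over.comp_left, hwt t ht]
      exact hmemW
    · have e : affMap s t ≫ r g = wb ≫ δ := by
        refine rel_ext p hp _ _ ?_ ?_
        · rw [Category.assoc, Category.assoc, hr₁, hδ₁, Category.comp_id, ← Category.assoc, ← affMap_comp]
          exact hwt _ (by rw [AlgHom.comp_assoc, gT_includeRight]; exact ht)
        · rw [Category.assoc, Category.assoc, hr₂, hδ₂, Category.comp_id, hwt t ht]
      refine ⟨wb.left pt₀, ?_⟩
      rw [← hpt, ← Scheme.Hom.comp_apply, ← Over.comp_left, ← Scheme.Hom.comp_apply, ← Over.comp_left, e]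
  let q₁ : PrimeSpectrum B₁ := ⟨RingHom.ker t₀.toRingHom, RingHom.ker_isPrime _⟩
  have hcl := PrimeSpectrum.isClosedMap_comap_of_isIntegral
    (Algebra.TensorProduct.includeRight (R := A0) (A := A) (B := B₁)).toRingHom (finite_includeRight A B₁).to_isIntegral
    _ hO.isClosed_compl
  obtain ⟨_, ⟨f, rfl⟩, hf, hfO⟩ := PrimeSpectrum.isTopologicalBasis_basic_opens.exists_subset_of_mem_open
    (a := q₁) (fun ⟨P, hP, hPq⟩ => hP (hmem P (congrArg PrimeSpectrum.asIdeal hPq))) hcl.isOpen_compl
  have hf' : t₀ f ≠ 0 := fun h => hf h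
  let B := Localization.Away f
  let loc : B₁ →ₐ[A0] B := IsScalarTower.toAlgHom A0 B₁ B
  haveI : Algebra.Etale A0 B := Algebra.Etale.comp A0 B₁ B
  let m : aff s (A ⊗[A0] B) ⟶ aff s (A ⊗[A0] B₁) := affMap s (Algebra.TensorProduct.map (AlgHom.id A0 A) loc)
  have hm : ∀ P, m.left P ∈ O := by
    intro P
    by_contra hP
    refine hfO ?_ ⟨m.left P, hP, rfl⟩
    show f ∉ Ideal.comap _ (Ideal.comap _ P.asIdeal)
    intro hmemf
    have hu : IsUnit (loc f) := IsLocalization.Away.algebraMap_isUnit f
    have : IsUnit (Algebra.TensorProduct.map (AlgHom.id A0 A) loc ((1 : A) ⊗ₜ[A0] f)) := by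
      rw [Algebra.TensorProduct.map_tmul, map_one]
      exact hu.map (Algebra.TensorProduct.includeRight (R := A0) (A := A) (B := B))
    exact (PrimeSpectrum.isPrime P).ne_top (Ideal.eq_top_of_isUnit_mem _ hmemf this)
  let e : Spec (CommRingCat.of (A ⊗[A0] B)) ⟶ Spec Q := IsOpenImmersion.lift jW (m.left ≫ w₁.left) (by
    rintro _ ⟨P, rfl⟩
    exact (hm P).1)
  have he : e ≫ jW = (m ≫ w₁).left := IsOpenImmersion.lift_fac _ _ _
  have hinv : ∀ g, affMap s (gT A G B g) ≫ (m ≫ w₁) = m ≫ w₁ := fun g => by
    rw [← Category.assoc, ← affMap_comp, gT_map, affMap_comp, Category.assoc]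
    refine Over.OverMorphism.ext ?_
    let k := IsOpenImmersion.lift δ.left (m ≫ r g).left (by
      rintro _ ⟨P, rfl⟩
      exact Set.mem_iInter.1 (hm P).2 g)
    have hk : k ≫ δ.left = (m ≫ r g).left := IsOpenImmersion.lift_fac _ _ _
    have e₁ := hk =≫ (hp.fst' p).left
    have e₂ := hk =≫ (hp.snd p).left
    rw [Category.assoc, ← Over.comp_left, hδ₁, ← Over.comp_left, Category.assoc, hr₁] at e₁
    rw [Category.assoc, ← Over.comp_left, hδ₂, ← Over.comp_left, Category.assoc, hr₂] at e₂
    exact e₁.symm.trans e₂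
  let χ : Q →+* A ⊗[A0] B := (Spec.preimage e).hom
  have hχ : ∀ (g : G) (y : Q), gT A G B g (χ y) = χ y := fun g y => by
    have h1 : Spec.map (CommRingCat.ofHom (gT A G B g).toRingHom) ≫ e = e := by
      rw [← cancel_mono jW, Category.assoc, he]
      exact congrArg CommaMorphism.left (hinv g)
    have h2 : Spec.preimage e ≫ CommRingCat.ofHom (gT A G B g).toRingHom = Spec.preimage e :=
      Spec.map_injective (by rw [Spec.map_comp, Spec.map_preimage, h1])
    exact RingHom.congr_fun (congrArg CommRingCat.Hom.hom h2) y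
  haveI : Module.Flat A0 B := inferInstance
  choose c hc using fun y => exists_includeRight_of_invariant A G B (χ y) fun g => hχ g y
  have hiR : Function.Injective (Algebra.TensorProduct.includeRight (R := A0) (A := A) (B := B)) :=
    Algebra.TensorProduct.includeRight_injective hinj
  let χ₀ : Q →+* B :=
    { toFun := c
      map_one' := hiR (by rw [hc, map_one, map_one])
      map_mul' := fun a b => hiR (by rw [hc, map_mul, map_mul, hc, hc])
      map_zero' := hiR (by rw [hc, map_zero, map_zero])
      map_add' := fun a b => hiR (by rw [hc, map_add, map_add, hc, hc]) }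
  let rB : aff s (A ⊗[A0] B) ⟶ aff s B := affMap s (Algebra.TensorProduct.includeRight (R := A0) (A := A))
  let w₀ : Spec (CommRingCat.of B) ⟶ U.left := Spec.map (CommRingCat.ofHom χ₀) ≫ jW
  have hw₀ : rB.left ≫ w₀ = (m ≫ w₁).left := by
    rw [← he, ← Category.assoc]
    show (Spec.map _ ≫ Spec.map _) ≫ jW = _
    rw [← Spec.map_comp, ← Spec.map_preimage e, ← CommRingCat.ofHom_comp]
    congr 2
    exact CommRingCat.hom_ext (RingHom.ext hc)
  have hover : w₀ ≫ U.hom = (aff s B).hom := by
    refine eq_of_comp_finite_injective (finite_includeRight A B) hiR _ _ ?_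
    show rB.left ≫ w₀ ≫ U.hom = rB.left ≫ (aff s B).hom
    rw [← Category.assoc, hw₀, Over.w, Over.w]
  refine ⟨B, inferInstance, inferInstance, inferInstance,
    ⟨⟨RingHom.ker (IsLocalization.Away.lift f (g := t₀.toRingHom) (isUnit_iff_ne_zero.2 hf') : B →+* Ω),
      RingHom.ker_isPrime _⟩, PrimeSpectrum.ext ?_⟩, Over.homMk w₀ hover, ?_⟩
  · show Ideal.comap (algebraMap A0 B) (RingHom.ker _) = q.asIdeal
    rw [RingHom.comap_ker, IsScalarTower.algebraMap_eq A0 B₁ B, ← RingHom.comp_assoc]
    rw [show (IsLocalization.Away.lift f (g := t₀.toRingHom) (isUnit_iff_ne_zero.2 hf') : B →+* Ω).comp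
      (algebraMap B₁ B) = t₀.toRingHom from IsLocalization.Away.lift_comp f _]
    exact (congrArg RingHom.ker t₀.comp_algebraMap).trans hφ
  · have e₃ : rB ≫ Over.homMk w₀ hover = m ≫ w₁ := Over.OverMorphism.ext hw₀
    rw [← Functor.map_comp_assoc, e₃, Functor.map_comp, Category.assoc, hw₁, ← Functor.map_comp_assoc]
    congr 2
    exact includeLeft_comm s A loc

end Groth.Agent.ConstActX
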