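import Groth.Agent.ConstActX.AffOver
import Groth.Agent.AlgSpLib.Rep
import Mathlib.RingTheory.Flat.Stability
import Mathlib.RingTheory.Etale.Basic
import Mathlib.AlgebraicGeometry.ZariskisMainTheorem
import Mathlib.AlgebraicGeometry.Morphisms.FlatMono

/-!
Maps from an affine scheme flat over a base to an algebraic space are determined after a finite injective
extension of the base.
-/

set_option autoImplicit false
set_option backward.isDefEq.respectTransparency false
set_option backward.isDefEq.respectTransparency.types false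
set_option linter.style.haveILetI false

universe u

open CategoryTheory CategoryTheory.Limits AlgebraicGeometry Opposite TensorProduct AlgSp

noncomputable section

namespace Groth.Agent.ConstActX

variable {S : Scheme.{u}}

/-- A separated-by-a-monomorphism test: a monomorphism locally of finite type through which a finite injective
extension factors is an isomorphism. -/
theorem isIso_of_mono_of_finite_injective {C D : Type u} [CommRing C] [CommRing D] {q : C →+* D} (hq : q.Finite)
    (hinj : Function.Injective q) {E : Scheme.{u}} (j : E ⟶ Spec (CommRingCat.of C)) [Mono j] [LocallyOfFiniteType j]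
    (l : Spec (CommRingCat.of D) ⟶ E) (hl : l ≫ j = Spec.map (CommRingCat.ofHom q)) : IsIso j := by
  haveI : IsFinite (l ≫ j) := by
    rw [hl]
    exact (IsFinite.SpecMap_iff _).2 hq
  haveI : Surjective (l ≫ j) := by
    rw [hl]
    exact ⟨RingHom.IsIntegral.comap_surjective hq.to_isIntegral hinj⟩
  haveI : Surjective l := ⟨fun e => by
    obtain ⟨x, hx⟩ := (l ≫ j).surjective (j e)
    exact ⟨x, j.injective hx⟩⟩
  haveI : UniversallyClosed j := UniversallyClosed.of_comp_surjective l j
  haveI : QuasiCompact j := inferInstance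
  haveI : IsProper j := ⟨⟩
  haveI : IsClosedImmersion j := (IsClosedImmersion.iff_isProper_and_mono j).2 ⟨inferInstance, inferInstance⟩
  refine IsClosedImmersion.isIso_of_injective_of_isAffine fun a b hab => ?_
  have h := congrArg (fun t => l.appTop t) hab
  simp only [← CommRingCat.comp_apply, ← Scheme.Hom.comp_appTop, hl] at h
  have hn := Scheme.ΓSpecIso_naturality (CommRingCat.ofHom q)
  have h' := congrArg (fun t => (Scheme.ΓSpecIso (CommRingCat.of D)).hom t) h
  have key : ∀ t, (Scheme.ΓSpecIso (CommRingCat.of D)).hom ((Spec.map (CommRingCat.ofHom q)).appTop t) =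
      q ((Scheme.ΓSpecIso (CommRingCat.of C)).hom t) := fun t =>
    RingHom.congr_fun (congrArg CommRingCat.Hom.hom hn) t
  have h'' := hinj (((key a).symm.trans h').trans (key b))
  exact ((Scheme.ΓSpecIso (CommRingCat.of C)).commRingCatIsoToRingEquiv).injective h''

section Atlas

variable {N : Sp S} {U : Over S} (p : (yon S).obj U ⟶ N) (hp : Representable p)

/-- Two maps to the chart with the same image factor through the relation. -/
theorem exists_rel {T : Over S} (a b : T ⟶ U) (h : (yon S).map a ≫ p = (yon S).map b ≫ p) :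
    ∃ r : T ⟶ hp.pullback p, r ≫ hp.fst' p = a ∧ r ≫ hp.snd p = b :=
  ⟨hp.lift' a b h, hp.lift'_fst _ _ _, hp.lift'_snd _ _ _⟩

/-- The relation maps monomorphically to the product. -/
theorem rel_ext {T : Over S} (r r' : T ⟶ hp.pullback p) (h₁ : r ≫ hp.fst' p = r' ≫ hp.fst' p)
    (h₂ : r ≫ hp.snd p = r' ≫ hp.snd p) : r = r' := hp.hom_ext' h₁ h₂

theorem rel_comm : (hp.fst' p).left ≫ U.hom = (hp.snd p).left ≫ U.hom := by
  rw [Over.w, Over.w]

/-- The map of the relation to the product. -/
def relProd : (hp.pullback p).left ⟶ pullback U.hom U.hom :=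
  pullback.lift (hp.fst' p).left (hp.snd p).left (rel_comm p hp)

instance mono_relProd : Mono (relProd p hp) := ⟨fun {Z} a b h => by
  have h1 : a ≫ (hp.fst' p).left = b ≫ (hp.fst' p).left := by
    have := h =≫ pullback.fst _ _
    simpa [relProd] using this
  have h2 : a ≫ (hp.snd p).left = b ≫ (hp.snd p).left := by
    have := h =≫ pullback.snd _ _
    simpa [relProd] using this
  have hw : b ≫ (hp.pullback p).hom = a ≫ (hp.pullback p).hom := by
    rw [← Over.w (hp.snd p), ← Category.assoc, ← Category.assoc, h2]
  exact congrArg CommaMorphism.left (rel_ext p hp (T := Over.mk (a ≫ (hp.pullback p).hom)) (Over.homMk a rfl)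
    (Over.homMk b hw) (Over.OverMorphism.ext h1) (Over.OverMorphism.ext h2))⟩

theorem etale_snd (hpe : RepWith @Etale p) {T : Over S} (g : (yon S).obj T ⟶ N) : Etale (hp.snd g).left :=
  hpe.2 g _ _ (hp.isPullback g)

theorem locallyOfFiniteType_relProd (hpe : RepWith @Etale p) : LocallyOfFiniteType (relProd p hp) := by
  haveI : Etale (relProd p hp ≫ pullback.snd U.hom U.hom) := by
    rw [relProd, pullback.lift_snd]; exact etale_snd p hp hpe p
  exact locallyOfFiniteType_of_comp (relProd p hp) (pullback.snd U.hom U.hom)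

end Atlas

section Aff

variable {A0 : Type u} [CommRing A0] (s : Spec (CommRingCat.of A0) ⟶ S) (A : Type u) [CommRing A] [Algebra A0 A]
  [Module.Finite A0 A]

omit [Module.Finite A0 A] in
theorem includeRight_comm {C D : Type u} [CommRing C] [CommRing D] [Algebra A0 C] [Algebra A0 D] (h : C →ₐ[A0] D) :
    affMap s (Algebra.TensorProduct.map (AlgHom.id A0 A) h) ≫ affMap s Algebra.TensorProduct.includeRight =
      affMap s (Algebra.TensorProduct.includeRight (R := A0) (A := A)) ≫ affMap s h := by
  rw [← affMap_comp, ← affMap_comp]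
  exact congrArg (affMap s) (AlgHom.ext fun x => by simp)

omit [Module.Finite A0 A] in
theorem includeLeft_comm {C D : Type u} [CommRing C] [CommRing D] [Algebra A0 C] [Algebra A0 D] (h : C →ₐ[A0] D) :
    affMap s (Algebra.TensorProduct.map (AlgHom.id A0 A) h) ≫ affMap s Algebra.TensorProduct.includeLeft =
      affMap s (Algebra.TensorProduct.includeLeft (R := A0) (S := A0) (A := A) (B := D)) := by
  rw [← affMap_comp]
  exact congrArg (affMap s) (AlgHom.ext fun x => by simp)

variable (hinj : Function.Injective (algebraMap A0 A)) {C : Type u} [CommRing C] [Algebra A0 C] [Module.Flat A0 C]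
  {N : Sp S} {U : Over S} (p : (yon S).obj U ⟶ N)

include hinj in
/-- Maps which lift to the chart and agree on the finite extension agree. -/
theorem eq_of_lift (hpe : RepWith @Etale p) (u₁ u₂ : aff s C ⟶ U)
    (h : (yon S).map (affMap s (Algebra.TensorProduct.includeRight (R := A0) (A := A) (B := C))) ≫ (yon S).map u₁ ≫ p =
      (yon S).map (affMap s (Algebra.TensorProduct.includeRight (R := A0) (A := A) (B := C))) ≫ (yon S).map u₂ ≫ p) :
    (yon S).map u₁ ≫ p = (yon S).map u₂ ≫ p := by
  let hp := hpe.1
  let rC : aff s (A ⊗[A0] C) ⟶ aff s C := affMap s (Algebra.TensorProduct.includeRight (R := A0) (A := A) (B := C))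
  obtain ⟨r, hr₁, hr₂⟩ := exists_rel p hp (rC ≫ u₁) (rC ≫ u₂) (by
    rw [Functor.map_comp, Functor.map_comp, Category.assoc, Category.assoc]; exact h)
  let v : (aff s C).left ⟶ pullback U.hom U.hom := pullback.lift u₁.left u₂.left (by rw [Over.w, Over.w])
  have hrv : r.left ≫ relProd p hp = rC.left ≫ v := by
    refine pullback.hom_ext ?_ ?_
    · simp only [relProd, v, Category.assoc, pullback.lift_fst, ← Over.comp_left, hr₁]
    · simp only [relProd, v, Category.assoc, pullback.lift_snd, ← Over.comp_left, hr₂]
  haveI : LocallyOfFiniteType (relProd p hp) := locallyOfFiniteType_relProd p hp hpe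
  let E := pullback (relProd p hp) v
  let j : E ⟶ (aff s C).left := pullback.snd (relProd p hp) v
  have hfin : (Algebra.TensorProduct.includeRight (R := A0) (A := A) (B := C)).toRingHom.Finite := by
    letI : Algebra C (A ⊗[A0] C) := Algebra.TensorProduct.rightAlgebra
    have : Module.Finite C (C ⊗[A0] A) := inferInstance
    have h' : Module.Finite C (A ⊗[A0] C) := by
      refine Module.Finite.equiv (R := C) (M := C ⊗[A0] A) ?_
      exact
        { Algebra.TensorProduct.comm A0 C A with
          map_smul' := fun c x => by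
            show Algebra.TensorProduct.comm A0 C A (c • x) = c • Algebra.TensorProduct.comm A0 C A x
            rw [Algebra.smul_def, map_mul, Algebra.smul_def]
            rfl }
    exact h'
  haveI : IsIso j := isIso_of_mono_of_finite_injective hfin
    (Algebra.TensorProduct.includeRight_injective hinj) j
    (pullback.lift r.left rC.left hrv) (pullback.lift_snd _ _ _)
  let k₀ : (aff s C).left ⟶ (hp.pullback p).left := inv j ≫ pullback.fst _ _
  have hk : k₀ ≫ relProd p hp = v := by
    rw [Category.assoc, pullback.condition]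
    exact IsIso.inv_hom_id_assoc j v
  have hk₁ : k₀ ≫ (hp.fst' p).left = u₁.left := by
    have := hk =≫ pullback.fst _ _
    simpa [relProd, v] using this
  have hk₂ : k₀ ≫ (hp.snd p).left = u₂.left := by
    have := hk =≫ pullback.snd _ _
    simpa [relProd, v] using this
  let k : aff s C ⟶ hp.pullback p := Over.homMk k₀ (by rw [← Over.w (hp.snd p), ← Category.assoc, hk₂, Over.w])
  have e₁ : k ≫ hp.fst' p = u₁ := Over.OverMorphism.ext hk₁
  have e₂ : k ≫ hp.snd p = u₂ := Over.OverMorphism.ext hk₂
  rw [← e₁, ← e₂, Functor.map_comp, Functor.map_comp, Category.assoc, Category.assoc, (hp.isPullback' p).w]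

include hinj in
/-- Maps to an algebraic space from an affine scheme flat over the base agree if they agree on the finite
extension. -/
theorem eq_of_agree (hN : IsAlgSpace N) (u₁ u₂ : (yon S).obj (aff s C) ⟶ N)
    (h : (yon S).map (affMap s (Algebra.TensorProduct.includeRight (R := A0) (A := A) (B := C))) ≫ u₁ =
      (yon S).map (affMap s (Algebra.TensorProduct.includeRight (R := A0) (A := A) (B := C))) ≫ u₂) : u₁ = u₂ := by
  obtain ⟨U, p, hpe, hps⟩ := hN.2
  let hp := hpe.1
  let c₁ := hp.snd u₁
  let c₂ := hp.snd ((yon S).map c₁ ≫ u₂)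
  let c := c₂ ≫ c₁
  haveI : Etale c₁.left := etale_snd p hp hpe _
  haveI : Etale c₂.left := etale_snd p hp hpe _
  haveI : Surjective c₁.left := hps.2 _ _ _ (hp.isPullback _)
  haveI : Surjective c₂.left := hps.2 _ _ _ (hp.isPullback _)
  haveI : Etale c.left := inferInstanceAs (Etale (c₂.left ≫ c₁.left))
  haveI : Surjective c.left := inferInstanceAs (Surjective (c₂.left ≫ c₁.left))
  let b₁ := c₂ ≫ hp.fst' u₁
  let b₂ := hp.fst' ((yon S).map c₁ ≫ u₂)
  have hb₁ : (yon S).map b₁ ≫ p = (yon S).map c ≫ u₁ := by
    simp only [b₁, c, Functor.map_comp, Category.assoc]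
    rw [(hp.isPullback' u₁).w]
  have hb₂ : (yon S).map b₂ ≫ p = (yon S).map c ≫ u₂ := by
    rw [show (yon S).map b₂ ≫ p = _ from (hp.isPullback' _).w]
    simp only [c, Functor.map_comp, Category.assoc]
    rfl
  let V := hp.pullback ((yon S).map c₁ ≫ u₂)
  let 𝒰 := V.left.affineCover
  let g : ∀ i, 𝒰.X i ⟶ (aff s C).left := fun i => 𝒰.f i ≫ c.left
  let R : ∀ i, CommRingCat.{u} := fun i => Γ(𝒰.X i, ⊤)
  let j : ∀ i, Spec (R i) ⟶ V.left := fun i => (𝒰.X i).isoSpec.inv ≫ 𝒰.f i
  let χ : ∀ i, C →+* R i := fun i => (Spec.preimage (j i ≫ c.left)).hom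
  have hχ : ∀ i, Spec.map (CommRingCat.ofHom (χ i)) = j i ≫ c.left := fun i => Spec.map_preimage _
  letI : ∀ i, Algebra C (R i) := fun i => (χ i).toAlgebra
  letI : ∀ i, Algebra A0 (R i) := fun i => ((χ i).comp (algebraMap A0 C)).toAlgebra
  haveI : ∀ i, IsScalarTower A0 C (R i) := fun i => IsScalarTower.of_algebraMap_eq fun _ => rfl
  haveI : ∀ i, Etale (Spec.map (CommRingCat.ofHom (χ i))) := fun i => by rw [hχ]; infer_instance
  haveI : ∀ i, Module.Flat A0 (R i) := fun i => by
    haveI : Module.Flat C (R i) :=
      (HasRingHomProperty.Spec_iff (P := @Flat)).1 (inferInstance : Flat (Spec.map (CommRingCat.ofHom (χ i))))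
    exact Module.Flat.trans A0 C (R i)
  let q : ∀ i, C →ₐ[A0] R i := fun i => IsScalarTower.toAlgHom A0 C (R i)
  let ι : ∀ i, aff s (R i) ⟶ V := fun i => Over.homMk (j i) (by
    rw [← Over.w c, ← Category.assoc, ← hχ]
    exact Over.w (affMap s (q i)))
  have hι : ∀ i, ι i ≫ c = affMap s (q i) := fun i => Over.OverMorphism.ext (hχ i).symm
  haveI : ∀ i, Etale (affMap s (q i)).left := fun i => (inferInstance : Etale (Spec.map (CommRingCat.ofHom (χ i))))
  refine hom_ext_of_etale_family (fun i => aff s (R i)) (fun i => affMap s (q i)) (fun y => ?_) u₁ u₂ fun i => ?_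
  · obtain ⟨v, hv⟩ := c.left.surjective y
    obtain ⟨i, x, hx⟩ := 𝒰.exists_eq v
    obtain ⟨x', rfl⟩ := (𝒰.X i).isoSpec.inv.surjective x
    refine ⟨i, x', ?_⟩
    rw [← hι]
    show c.left (j i x') = y
    rw [show j i x' = v from hx, hv]
  · rw [← hι, Functor.map_comp, Category.assoc, Category.assoc, ← hb₁, ← hb₂, ← Functor.map_comp_assoc,
      ← Functor.map_comp_assoc]
    refine eq_of_lift s A hinj p hpe _ _ ?_
    simp only [Functor.map_comp, Category.assoc]
    rw [hb₁, hb₂, ← Functor.map_comp_assoc (yon S) (ι i), ← Functor.map_comp_assoc (yon S) (ι i), hι,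
      ← Functor.map_comp_assoc, ← Functor.map_comp_assoc, ← includeRight_comm]
    simp only [Functor.map_comp, Category.assoc]
    rw [h]

end Aff

end Groth.Agent.ConstActX
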