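import Groth.Agent.ConstActX.GlueInvariant
import Groth.Prelude.Def_StMod2
import Mathlib.AlgebraicGeometry.AffineSpace

/-!
The functions on the spectrum of the invariants are the functions on the quotient stack.
-/

set_option autoImplicit false
set_option backward.isDefEq.respectTransparency false
set_option backward.isDefEq.respectTransparency.types false
set_option linter.style.haveILetI false

universe u

open CategoryTheory CategoryTheory.Limits MonoidalCategory CartesianMonoidalCategory MonObj AlgebraicGeometry Opposite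
  TensorProduct AlgSp

noncomputable section

namespace Groth.Agent.ConstActX

open Groth.Agent.QuotLib Groth.Agent.AlgStLib

section Affine

variable {S : Scheme.{u}}

/-- The affine line over the base. -/
def line (S : Scheme.{u}) : Over S := Over.mk (AffineSpace PUnit.{u+1} S ↘ S)

/-- The morphism to the affine line of a function. -/
def toLine {T : Over S} (t : Γ(T.left, ⊤)) : T ⟶ line S :=
  Over.homMk (AffineSpace.homOfVector T.hom fun _ => t) (AffineSpace.homOfVector_over _ _)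

theorem toLine_nat {T T' : Over S} (j : T' ⟶ T) (t : Γ(T.left, ⊤)) : j ≫ toLine t = toLine (j.left.appTop t) := by
  refine Over.OverMorphism.ext (AffineSpace.hom_ext ?_ fun i => ?_)
  · exact (Over.w (j ≫ toLine t)).trans (Over.w (toLine (j.left.appTop t))).symm
  · show (j.left ≫ AffineSpace.homOfVector T.hom fun _ => t).appTop _ =
      (AffineSpace.homOfVector T'.hom fun _ => j.left.appTop t).appTop _
    rw [Scheme.Hom.comp_appTop, CommRingCat.comp_apply, AffineSpace.homOfVector_appTop_coord,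
      AffineSpace.homOfVector_appTop_coord]

/-- The coordinate function of a morphism to the affine line. -/
def ofLine {T : Over S} (m : T ⟶ line S) : Γ(T.left, ⊤) := m.left.appTop (AffineSpace.coord S PUnit.unit)

theorem ofLine_toLine {T : Over S} (t : Γ(T.left, ⊤)) : ofLine (toLine t) = t :=
  AffineSpace.homOfVector_appTop_coord _ (fun _ => t) _

theorem toLine_injective {T : Over S} : Function.Injective (toLine (T := T)) :=
  Function.LeftInverse.injective ofLine_toLine

theorem toLine_ofLine {T : Over S} (m : T ⟶ line S) : toLine (ofLine m) = m := by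
  refine Over.OverMorphism.ext (AffineSpace.hom_ext ?_ fun i => ?_)
  · exact (Over.w (toLine (ofLine m))).trans (Over.w m).symm
  · exact AffineSpace.homOfVector_appTop_coord _ (fun _ => ofLine m) i

theorem eq_of_appTop_eq {T T' : Over S} (j : T' ⟶ T) [Flat j.left] [Surjective j.left] (t t' : Γ(T.left, ⊤))
    (h : j.left.appTop t = j.left.appTop t') : t = t' := by
  haveI : Epi j.left := Flat.epi_of_flat_of_surjective j.left
  refine toLine_injective (Over.OverMorphism.ext ((cancel_epi j.left).1 ?_))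
  rw [← Over.comp_left, ← Over.comp_left, toLine_nat, toLine_nat, h]

end Affine

section Sect

variable {S : Scheme.{u}} {G : Over S} [GrpObj G] {X Y : Over S} {aX : AlgGrp.Action G X} {f : X ⟶ Y}
  (π : AlgSt.QuotSt Scheme.fppfPrecoverage G aX ⥤ᵇ AlgSt.ofSch Y) {E : Over S} (g : E ⟶ Y)

/-- A morphism to the object of a scheme over the base. -/
def mkMor (ξ : (AlgSt.QuotSt Scheme.fppfPrecoverage G aX).obj) (b : ξ.base ⟶ E)
    (h : secAt π ξ = ⟨b ≫ g⟩) : π.obj ξ ⟶ (⟨E, ⟨g⟩⟩ : (AlgSt.ofSch Y).obj) :=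
  ⟨eqToHom (π.w_obj ξ) ≫ b, by
    apply ULift.ext
    have h' : eqToHom (π.w_obj ξ).symm ≫ (π.obj ξ).sec.down = b ≫ g := congrArg ULift.down h
    show (eqToHom (π.w_obj ξ) ≫ b) ≫ g = (π.obj ξ).sec.down
    rw [Category.assoc, ← h', eqToHom_trans_assoc, eqToHom_refl, Category.id_comp]⟩

theorem baseOver_mkMor (ξ : (AlgSt.QuotSt Scheme.fppfPrecoverage G aX).obj) (b : ξ.base ⟶ E)
    (h : secAt π ξ = ⟨b ≫ g⟩) : StMod.baseOver π ξ (mkMor π g ξ b h) = b := by
  show eqToHom (π.w_obj ξ).symm ≫ eqToHom (π.w_obj ξ) ≫ b = b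
  rw [eqToHom_trans_assoc, eqToHom_refl, Category.id_comp]

theorem mor_ext {ξ : (AlgSt.QuotSt Scheme.fppfPrecoverage G aX).obj} {eta : (AlgSt.ofSch Y).obj}
    {α β : π.obj ξ ⟶ eta} (h : StMod.baseOver π ξ α = StMod.baseOver π ξ β) : α = β :=
  Stk.EltObj.hom_ext ((cancel_epi (eqToHom (π.w_obj ξ).symm)).1 h)

theorem secAt_eq_baseOver (ξ : (AlgSt.QuotSt Scheme.fppfPrecoverage G aX).obj)
    (α : π.obj ξ ⟶ (⟨E, ⟨g⟩⟩ : (AlgSt.ofSch Y).obj)) : secAt π ξ = ⟨StMod.baseOver π ξ α ≫ g⟩ := by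
  apply ULift.ext
  have h : α.hom ≫ g = (π.obj ξ).sec.down := congrArg ULift.down α.map_sec
  show eqToHom (π.w_obj ξ).symm ≫ (π.obj ξ).sec.down = (eqToHom (π.w_obj ξ).symm ≫ α.hom) ≫ g
  rw [Category.assoc, h]

variable (hπ : restrHom π = (yon S).map f)

include hπ in
theorem secAt_triv {P : Over S} (x : P ⟶ X) (b : P ⟶ E) (h : x ≫ f = b ≫ g) :
    secAt π (triv Scheme.fppfPrecoverage G aX x) = ⟨b ≫ g⟩ :=
  (congrArg (fun k : (yon S).obj X ⟶ (yon S).obj Y => k.hom.app (op P) ⟨x⟩) hπ).trans (congrArg ULift.up h)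

variable {π g}
variable (sct : (StMod.O (AlgSt.QuotSt Scheme.fppfPrecoverage G aX)).RelSect π (⟨E, ⟨g⟩⟩ : (AlgSt.ofSch Y).obj))

/-- The value of a section at a point. -/
def val {P : Over S} (x : P ⟶ X) (b : P ⟶ E) (h : x ≫ f = b ≫ g) : Γ(P.left, ⊤) :=
  sct.1 (triv Scheme.fppfPrecoverage G aX x) (mkMor π g _ b (secAt_triv π g hπ x b h))

theorem val_map (ξ : (AlgSt.QuotSt Scheme.fppfPrecoverage G aX).obj)
    (α : π.obj ξ ⟶ (⟨E, ⟨g⟩⟩ : (AlgSt.ofSch Y).obj)) {P : Over S} (x : P ⟶ X) (b : P ⟶ E) (h : x ≫ f = b ≫ g)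
    (φ : triv Scheme.fppfPrecoverage G aX x ⟶ ξ) (hb : φ.base ≫ StMod.baseOver π ξ α = b) :
    φ.base.left.appTop (sct.1 ξ α) = val hπ sct x b h := by
  refine (sct.2 φ α).trans (congrArg (sct.1 _) (mor_ext π ?_))
  rw [baseOver_mkMor, ← StMod.map_comp_baseOver]
  exact hb

theorem val_comp {P P' : Over S} (k : P' ⟶ P) (x : P ⟶ X) (b : P ⟶ E) (h : x ≫ f = b ≫ g)
    (h' : (k ≫ x) ≫ f = (k ≫ b) ≫ g) : val hπ sct (k ≫ x) (k ≫ b) h' = k.left.appTop (val hπ sct x b h) := by
  obtain ⟨φ, hφ, -⟩ := (hom_triv_iff (K := Scheme.fppfPrecoverage) (G := G) (aX := aX) k (k ≫ x) x).2 1 (by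
    rw [Hom.one_def, ← lift_whiskerRight, Category.assoc, aX.one_act, lift_leftUnitor_hom])
  refine ((val_map hπ sct _ (mkMor π g _ b (secAt_triv π g hπ x b h)) (k ≫ x) (k ≫ b) h' φ ?_)).symm.trans ?_
  · rw [baseOver_mkMor, hφ]
  · rw [hφ]
    rfl

theorem val_translate {P : Over S} (x x' : P ⟶ X) (b : P ⟶ E) (tr : P ⟶ G)
    (htr : CartesianMonoidalCategory.lift tr x' ≫ aX.act = x) (h : x ≫ f = b ≫ g) (h' : x' ≫ f = b ≫ g) :
    val hπ sct x b h = val hπ sct x' b h' := by
  obtain ⟨φ, hφ, -⟩ := (hom_triv_iff (K := Scheme.fppfPrecoverage) (G := G) (aX := aX) (𝟙 P) x x').2 tr (by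
    rw [Category.id_comp]; exact htr)
  refine ((val_map hπ sct _ (mkMor π g _ b (secAt_triv π g hπ x' b h')) x b h φ ?_)).symm.trans ?_
  · rw [baseOver_mkMor, hφ]; exact Category.id_comp b
  · rw [hφ]
    show (𝟙 P.left : P.left ⟶ P.left).appTop _ = _
    rw [Scheme.Hom.id_appTop]
    rfl

variable [Flat G.hom] [LocallyOfFinitePresentation G.hom]

/-- A section agreeing on points with the pullbacks of a function is the section of that function. -/
theorem sect_eq (r : Γ(E.left, ⊤))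
    (hr : ∀ (P : Over S) (x : P ⟶ X) (b : P ⟶ E) (h : x ≫ f = b ≫ g), val hπ sct x b h = b.left.appTop r)
    (ξ : (AlgSt.QuotSt Scheme.fppfPrecoverage G aX).obj) (α : π.obj ξ ⟶ (⟨E, ⟨g⟩⟩ : (AlgSt.ofSch Y).obj)) :
    (StMod.baseOver π ξ α).left.appTop r = sct.1 ξ α := by
  obtain ⟨⟨_, _⟩, _⟩ := fppf_π ξ
  let φ := trivHom ξ (𝟙 ξ.P) ξ.φ (Category.id_comp _)
  have hφ : φ.base = ξ.π := Category.id_comp _
  have h1 := secAt_map π φ
  have hpm : (AlgSt.QuotSt Scheme.fppfPrecoverage G aX).p.map φ = ξ.π := hφ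
  rw [hpm, secAt_eq_baseOver π g ξ α] at h1
  have h2 : ξ.φ ≫ f = (ξ.π ≫ StMod.baseOver π ξ α) ≫ g := by
    have h3 := h1.trans (congrArg (fun k : (yon S).obj X ⟶ (yon S).obj Y => k.hom.app (op ξ.P) ⟨ξ.φ⟩) hπ)
    have h5 : ξ.π ≫ StMod.baseOver π ξ α ≫ g = ξ.φ ≫ f := congrArg ULift.down h3
    exact h5.symm.trans (Category.assoc _ _ _).symm
  haveI : Flat ξ.π.left := by assumption
  haveI : Surjective ξ.π.left := by assumption
  refine eq_of_appTop_eq ξ.π _ _ ?_
  have h4 := (val_map hπ sct ξ α ξ.φ (ξ.π ≫ StMod.baseOver π ξ α) h2 φ (by rw [hφ])).trans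
    (hr ξ.P ξ.φ (ξ.π ≫ StMod.baseOver π ξ α) h2)
  rw [hφ, Over.comp_left, Scheme.Hom.comp_appTop, CommRingCat.comp_apply] at h4
  exact h4.symm

end Sect

variable (R : Type u) [CommRing R] (A : Type u) [CommRing A] [Algebra R A] [Algebra.FiniteType R A]
  (G : Type u) [Group G] [Fintype G] [DecidableEq G] [MulSemiringAction G A] [SMulCommClass G R A]
  (π : ConstAct.quotSt R A G Scheme.fppfPrecoverage ⥤ᵇ AlgSt.ofSch (ConstAct.specInv R A G))
  (hπ : BasedFunctor.comp
      (AlgSt.quotMap Scheme.fppfPrecoverage (ConstAct.GR R G) (ConstAct.gaction R A G)) π =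
    AlgSt.ofSpMap ((AlgSp.yon (Spec (CommRingCat.of R))).map (ConstAct.quot R A G)))

include hπ in
/-- The unit is bijective over every scheme flat over the spectrum of the invariants. -/
theorem bijective_unitSect {E : Over (Spec (CommRingCat.of R))} (g : E ⟶ ConstAct.specInv R A G) [Flat g.left] :
    Function.Bijective (StMod.unitSect π (⟨E, ⟨g⟩⟩ : (AlgSt.ofSch (ConstAct.specInv R A G)).obj)) := by
  haveI := smulCommClass_inv R A G
  haveI := isInvariant_inv R A G
  haveI := finite_inv R A G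
  obtain ⟨s, eX, e0, hq, hact, -, -⟩ := exists_setup R A G
  obtain ⟨_, _, _⟩ := gr_props R G
  have hπ' := restrHom_eq R A G π hπ
  refine ⟨fun r₁ r₂ h => ?_, fun sct => ?_⟩
  · have huniq := (existsUnique_glue eX e0 hq hact Subtype.val_injective g
      (fun {P} x b _ => b ≫ toLine r₁)
      (fun k x b h h' => Category.assoc _ _ _) (fun x b a h h' => rfl))
    refine toLine_injective (huniq.unique (fun P x b h => rfl) fun P x b hb => ?_)
    have hv : b.left.appTop r₁ = b.left.appTop r₂ := by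
      have h1 := congrArg (fun q => q.1 (triv Scheme.fppfPrecoverage (ConstAct.GR R G) (ConstAct.gaction R A G) x)
        (mkMor π g _ b (secAt_triv π g hπ' x b hb))) h
      simp only [StMod.unitSect_val, baseOver_mkMor] at h1
      exact h1
    rw [toLine_nat, toLine_nat, hv]
  · obtain ⟨r, hr, -⟩ := existsUnique_glue eX e0 hq hact Subtype.val_injective g
      (fun {P} x b h => toLine (val hπ' sct x b h))
      (fun k x b h h' => by rw [val_comp hπ' sct k x b h h', ← toLine_nat])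
      (fun {P} x b a h h' => by
        obtain ⟨tr, htr⟩ := exists_translate R A G x a
        rw [val_translate hπ' sct (x ≫ ConstAct.act R A G a) x b tr htr h' h])
    refine ⟨ofLine (T := E) r, StMod.Mod.RelSect.ext _ _ _ fun ξ α => ?_⟩
    refine (StMod.unitSect_val π (⟨E, ⟨g⟩⟩ : (AlgSt.ofSch (ConstAct.specInv R A G)).obj) (ofLine (T := E) r) ξ α).trans (sect_eq hπ' sct (ofLine (T := E) r) (fun P x b h => ?_) ξ α)
    refine toLine_injective ((hr P x b h).trans ?_)
    rw [← toLine_nat, toLine_ofLine]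

include hπ in
/-- The structure sheaf of the spectrum of the invariants is the pushforward of that of the quotient stack. -/
theorem unitIsIso : StMod.UnitIsIso π := by
  rintro ⟨e, he⟩
  obtain ⟨g, hg⟩ := (yon (Spec (CommRingCat.of R))).map_surjective e.hom
  have het : Etale g.left := by
    refine (repWith_yon_map_iff @Etale g).1 ?_
    rw [hg]
    exact he
  haveI : Flat g.left := inferInstance
  have hη : StMod.etaOf ⟨e, he⟩ = (⟨e.left, ⟨g⟩⟩ : (AlgSt.ofSch (ConstAct.specInv R A G)).obj) := by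
    show (⟨e.left, (AlgSp.J (Spec (CommRingCat.of R))).uliftYonedaEquiv e.hom⟩ :
      (AlgSt.ofSch (ConstAct.specInv R A G)).obj) = _
    rw [← hg, GrothendieckTopology.uliftYonedaEquiv_uliftYoneda_map]
  rw [hη]
  exact bijective_unitSect R A G π hπ g

end Groth.Agent.ConstActX
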