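import Groth.Agent.S16960
import Groth.Agent.ConstActX.CoarseBC
import Groth.Agent.QuotLib.QuotEtale
import Groth.Agent.AlgStLib.GeomLift
import Groth.Agent.AlgSpDec.AffineProps

/-!
The quotient stack of a finite group is universally homeomorphic to the spectrum of the invariants.
-/

set_option autoImplicit false
set_option backward.isDefEq.respectTransparency false
set_option backward.isDefEq.respectTransparency.types false
set_option linter.style.haveILetI false

universe u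

open CategoryTheory CategoryTheory.Functor CategoryTheory.Limits AlgebraicGeometry Opposite AlgSp

noncomputable section

namespace Groth.Agent.ConstActX.UnivHomeo

open Groth.Agent.AlgStLib Groth.Agent.FibBase Groth.Agent.QuotLib Groth.Agent.AlgSpLib

section General

variable {S : Scheme.{u}} {𝒳 𝒳' : AlgSt.Cat S} {M : Sp S}

local notation "K₀" => Scheme.fppfPrecoverage

/-- A functor to an algebraic space injective on isomorphism classes of geometric points has surjective diagonal. -/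
theorem isSurjective_diag_of_geomPtBij (h𝒳 : AlgSt.IsAlgStack K₀ 𝒳) (hM : IsAlgSpace M) {π : 𝒳 ⥤ᵇ AlgSt.ofSp M}
    (h : AlgSt.GeomPtBij π) : AlgSt.IsSurjective (FibCat.diag π) := by
  refine (GeomLift.isSurjective_diag_iff h𝒳 (isAlgStack_ofSp ⟨M, hM⟩) π).2 fun k _ _ s a₁ a₂ h₁ h₂ β hβ => ?_
  let x : 𝒳.p.Fiber (Over.mk s) := ⟨a₁, h₁⟩
  let y : 𝒳.p.Fiber (Over.mk s) := ⟨a₂, h₂⟩
  have hb : β.hom = eqToHom (((π.w_obj a₁).trans h₁).trans ((π.w_obj a₂).trans h₂).symm) := by
    have e := IsHomLift.fac' (AlgSt.ofSp M).p (𝟙 (Over.mk s)) β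
    change β.hom = _ at e
    rw [e]
    simp
  have hsec : AlgSt.fibSec π x = AlgSt.fibSec π y := by
    show M.obj.map _ (π.obj a₁).sec = M.obj.map _ (π.obj a₂).sec
    rw [← β.map_sec, hb, ← Functor.map_comp_apply, ← op_comp, eqToHom_trans]
  obtain ⟨i⟩ := (h k s).2 x y hsec
  refine ⟨i.hom.1, i.hom.2, Stk.EltObj.hom_ext ?_⟩
  have h3 : 𝒳.p.IsHomLift (𝟙 (Over.mk s)) i.hom.1 := i.hom.2
  have h4 : (AlgSt.ofSp M).p.IsHomLift (𝟙 (Over.mk s)) (π.map i.hom.1) := π.preserves_isHomLift _ _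
  have e := IsHomLift.fac' (AlgSt.ofSp M).p (𝟙 (Over.mk s)) (π.map i.hom.1)
  change (π.map i.hom.1).hom = _ at e
  rw [e, hb]
  simp

/-- A functor whose composite with a surjection is universally closed is universally closed. -/
theorem isClosedMap_fpFst_of_comp {𝒴 𝒵 : AlgSt.Cat S} (h𝒳 : AlgSt.IsAlgStack K₀ 𝒳)
    (h𝒳' : AlgSt.IsAlgStack K₀ 𝒳') (h𝒴 : AlgSt.IsAlgStack K₀ 𝒴) (h𝒵 : AlgSt.IsAlgStack K₀ 𝒵)
    {q : 𝒳' ⥤ᵇ 𝒳} (hq : AlgSt.IsSurjective q) {π : 𝒳 ⥤ᵇ 𝒴} (g : 𝒵 ⥤ᵇ 𝒴)
    (h : IsClosedMap (AlgSt.Points.map (FibCat.fpFst g (BasedFunctor.comp q π)))) :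
    IsClosedMap (AlgSt.Points.map (FibCat.fpFst g π)) := by
  have hW := isAlgStack_fp h𝒵 h𝒳 h𝒴.isStack h𝒴.diag g π
  have hW' := isAlgStack_fp hW h𝒳' h𝒳.isStack h𝒳.diag (FibCat.fpSnd g π) q
  have hV := isAlgStack_fp h𝒵 h𝒳' h𝒴.isStack h𝒴.diag g (BasedFunctor.comp q π)
  let Q := FibCat.fpFst (FibCat.fpSnd g π) q
  have hQ : AlgSt.IsSurjective Q := pts_surjective_fpFst h𝒳'.isStack.1 h𝒳.isStack.1 hW.isStack.1 _ hq
  intro C hC
  have hC' : IsClosed (AlgSt.Points.map Q ⁻¹' C) := hC.preimage (continuous_pts_map hW.isStack.1 hW.atlas Q)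
  have e : AlgSt.Points.map (FibCat.fpFst g π) '' C =
      AlgSt.Points.map (FibCat.fpFst g (BasedFunctor.comp q π)) ''
        (AlgSt.Points.map (pasteHor g q π) '' (AlgSt.Points.map Q ⁻¹' C)) := by
    rw [← Set.image_comp]
    conv_lhs => rw [← Set.image_preimage_eq C hQ, ← Set.image_comp]
    refine congrArg (· '' _) (funext fun w => ?_)
    show AlgSt.Points.map (FibCat.fpFst g π) (AlgSt.Points.map Q w) =
      AlgSt.Points.map (FibCat.fpFst g (BasedFunctor.comp q π)) (AlgSt.Points.map (pasteHor g q π) w)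
    rw [← pts_map_comp, ← pts_map_comp]
    rfl
  rw [e]
  exact h _ ((isHomeomorph_pts_map hW' hV (pasteHor_isEquivOver g q π)).isClosedMap _ hC')

/-- A functor of representables given by a universally closed morphism is universally closed. -/
theorem isClosedMap_fpFst_ofSpMap {X Y : Over S} (f : X ⟶ Y) [UniversallyClosed f.left] {𝒵 : AlgSt.Cat S}
    (h𝒵 : AlgSt.IsAlgStack K₀ 𝒵) (g : 𝒵 ⥤ᵇ AlgSt.ofSch Y) :
    IsClosedMap (AlgSt.Points.map (FibCat.fpFst g (AlgSt.ofSpMap ((yon S).map f)))) :=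
  univ_of_repByAlgSpWith good_isClosedMap (P := IsUnivClosedMor) rfl
    (isAlgStack_ofSp ⟨_, IsAlgSpace.yon_obj X⟩) (isAlgStack_ofSp ⟨_, IsAlgSpace.yon_obj Y⟩)
    (repByAlgSpWith_ofSpMap (fun _ _ _ _ _ _ _ _ _ _ _ _ sq hh => AlgSpPts.isUnivClosedMor_of_isPullback sq hh)
      (IsAlgSpace.yon_obj X) (IsAlgSpace.yon_obj Y) _
      (AlgSpDec.isUnivClosedMor_of_repWith_universallyClosed ((repWith_yon_map_iff _ f).2 ‹_›))) h𝒵 g

/-- A functor of representables given by a surjection is surjective. -/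
theorem isSurjective_ofSpMap {X Y : Over S} (f : X ⟶ Y) [Surjective f.left] :
    AlgSt.IsSurjective (AlgSt.ofSpMap ((yon S).map f)) := fun y => by
  obtain ⟨x, hx⟩ := surjective_map_of_repWith ((repWith_yon_map_iff @Surjective f).2 ‹_›) (spPt y)
  obtain ⟨x, rfl⟩ := spPt_bijective.2 x
  exact ⟨x, spPt_bijective.1 ((spPt_map_ofSpMap _ _).trans hx)⟩

end General

variable (R : Type u) [CommRing R] [IsNoetherianRing R] (A : Type u) [CommRing A] [Algebra R A]
  [Algebra.FiniteType R A]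
  (G : Type u) [Group G] [Fintype G] [DecidableEq G] [MulSemiringAction G A] [SMulCommClass G R A]
  (π : ConstAct.quotSt R A G Scheme.fppfPrecoverage ⥤ᵇ AlgSt.ofSch (ConstAct.specInv R A G))
  (hπ : BasedFunctor.comp
      (AlgSt.quotMap Scheme.fppfPrecoverage (ConstAct.GR R G) (ConstAct.gaction R A G)) π =
    AlgSt.ofSpMap ((AlgSp.yon (Spec (CommRingCat.of R))).map (ConstAct.quot R A G)))

omit [IsNoetherianRing R] [DecidableEq G] in
theorem smooth_gr : Smooth (ConstAct.GR R G).hom := by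
  show Smooth (Spec.map (CommRingCat.ofHom (algebraMap R (ConstGrp.F R G))))
  refine (HasRingHomProperty.Spec_iff (P := @Smooth)).2 ?_
  have : Algebra.Etale R (ConstGrp.F R G) := inferInstanceAs (Algebra.Etale R (G → R))
  exact RingHom.smooth_algebraMap.2 inferInstance

omit [IsNoetherianRing R] in
theorem quot_props : UniversallyClosed (ConstAct.quot R A G).left ∧ Surjective (ConstAct.quot R A G).left := by
  haveI := finite_inv R A G
  have hf : IsFinite (Spec.map (CommRingCat.ofHom (algebraMap (ConstAct.inv R A G) A))) :=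
    (IsFinite.SpecMap_iff _).2 (RingHom.finite_algebraMap.2 inferInstance)
  refine ⟨(inferInstance : UniversallyClosed (Spec.map (CommRingCat.ofHom (algebraMap (ConstAct.inv R A G) A)))),
    ⟨fun p => ?_⟩⟩
  haveI : Algebra.IsIntegral (ConstAct.inv R A G) A := Algebra.IsIntegral.of_finite _ _
  haveI : FaithfulSMul (ConstAct.inv R A G) A := (faithfulSMul_iff_algebraMap_injective _ _).2 Subtype.val_injective
  obtain ⟨Q, hQ⟩ := Algebra.IsIntegral.comap_surjective (R := ConstAct.inv R A G) (S := A) p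
  exact ⟨Q, hQ⟩

include hπ in
/-- The map to the spectrum of the invariants is a universal homeomorphism. -/
theorem isUnivHomeo : AlgSt.IsUnivHomeo Scheme.fppfPrecoverage π := by
  obtain ⟨_, _, _⟩ := gr_props R G
  haveI := smooth_gr R G
  obtain ⟨_, _⟩ := quot_props R A G
  intro 𝒵 h𝒵 g
  have hX : AlgSt.IsAlgStack Scheme.fppfPrecoverage (ConstAct.quotSt R A G Scheme.fppfPrecoverage) :=
    QuotEtale.isAlgStack_fppf
  have hY := isAlgStack_ofSp ⟨_, IsAlgSpace.yon_obj (S := Spec (CommRingCat.of R)) (ConstAct.specInv R A G)⟩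
  have hX' := isAlgStack_ofSp ⟨_, IsAlgSpace.yon_obj (S := Spec (CommRingCat.of R)) (ConstAct.X R A)⟩
  have hW := isAlgStack_fp h𝒵 hX hY.isStack hY.diag g π
  let q := AlgSt.quotMap Scheme.fppfPrecoverage (ConstAct.GR R G) (ConstAct.gaction R A G)
  have hq : AlgSt.IsSurjective q := fun x => by
    obtain ⟨y, rfl⟩ := isSurjective_of_repByAlgSpWith (isFibGrpd_overCat _) hX.isStack.1
      (isAlgStack_overCat _).atlas (quot_smooth_surjective (G := ConstAct.GR R G)
        (aX := ConstAct.gaction R A G)).2 x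
    exact ⟨_, (pts_map_comp _ q y).symm⟩
  have hdiag := isSurjective_diag_of_geomPtBij hX (IsAlgSpace.yon_obj _) (Groth.Agent.S16960.result R A G π hπ).1.2
  have hinj := (isUnivInjective_iff_isSurjective_diag hX hY.isStack.1 π).2 hdiag 𝒵 h𝒵 g
  have hs : AlgSt.IsSurjective π := fun y => by
    obtain ⟨x, rfl⟩ := isSurjective_ofSpMap (ConstAct.quot R A G) y
    exact ⟨AlgSt.Points.map q x, by rw [← pts_map_comp, hπ]⟩
  have hsurj := pts_surjective_fpFst hX.isStack.1 hY.isStack.1 h𝒵.isStack.1 g hs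
  refine isHomeomorph_iff_continuous_isClosedMap_bijective.2
    ⟨continuous_pts_map h𝒵.isStack.1 h𝒵.atlas _, ?_, hinj, hsurj⟩
  refine isClosedMap_fpFst_of_comp hX hX' hY h𝒵 hq g ?_
  rw [hπ]
  exact isClosedMap_fpFst_ofSpMap _ h𝒵 g

end Groth.Agent.ConstActX.UnivHomeo
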